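import Mathlib.Algebra.Category.ModuleCat.Basic
import Mathlib.RingTheory.Finiteness.Ideal
import Mathlib.CategoryTheory.Category.Preorder

/-!
# Limits of adic systems of modules
-/

set_option autoImplicit false

universe u

open CategoryTheory Opposite

namespace Groth.EtaleDeep.AdicP

variable {Λ : Type u} [CommRing Λ] (G : ℕᵒᵖ ⥤ ModuleCat.{u} Λ)

/-- The transition maps. -/
abbrev t {i j : ℕ} (h : i ≤ j) : G.obj (op j) →ₗ[Λ] G.obj (op i) := (G.map (homOfLE h).op).hom

lemma t_t {i j k : ℕ} (h : i ≤ j) (h' : j ≤ k) (x : G.obj (op k)) :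
    t G h (t G h' x) = t G (h.trans h') x :=
  (Functor.map_comp_apply G (homOfLE h').op (homOfLE h).op x).symm

lemma t_refl (i : ℕ) (x : G.obj (op i)) : t G (le_refl i) x = x := Functor.map_id_apply G _ x

variable {G} {I : Ideal Λ}

/-- Surjective systems: every element of a stage extends to a compatible family. -/
theorem exists_compat (hs : ∀ i, Function.Surjective (t G (Nat.le_succ i))) (n : ℕ) (z : G.obj (op n)) :
    ∃ x : ∀ i, G.obj (op i), (∀ i, t G (Nat.le_succ i) (x (i + 1)) = x i) ∧ x n = z := by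
  choose g hg using hs
  let up : ∀ k, G.obj (op (n + k)) := fun k =>
    Nat.rec (motive := fun k => G.obj (op (n + k))) z (fun k zk => g (n + k) zk) k
  refine ⟨fun i => t G (Nat.le_add_left i n) (up i), fun i => ?_, ?_⟩
  · change t G _ (t G _ (g (n + i) (up i))) = _
    rw [t_t, ← t_t G (Nat.le_add_left i n) (Nat.le_succ (n + i)), hg]
  · have key : ∀ k, t G (Nat.le_add_right n k) (up k) = z := by
      intro k
      induction k with
      | zero => exact t_refl G n z
      | succ k ih =>
        rw [← t_t G (Nat.le_add_right n k) (Nat.le_succ (n + k))]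
        exact (congrArg _ (hg (n + k) (up k))).trans ih
    exact key n

/-- The kernel of the projection from compatible families is `I^(n+1)` times the families. -/
theorem exists_decomposition (hI : I.FG)
    (hkill : ∀ i, ∀ a ∈ I ^ (i + 1), ∀ z : G.obj (op i), a • z = 0)
    (hs : ∀ i, Function.Surjective (t G (Nat.le_succ i)))
    (hker : ∀ i, ∀ z : G.obj (op (i + 1)), t G (Nat.le_succ i) z = 0 →
      z ∈ (I ^ (i + 1)) • (⊤ : Submodule Λ (G.obj (op (i + 1)))))
    (n : ℕ) (x : ∀ i, G.obj (op i)) (hx : ∀ i, t G (Nat.le_succ i) (x (i + 1)) = x i) (hxn : x n = 0) :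
    ∃ (s : Finset Λ) (z : s → ∀ i, G.obj (op i)), (↑s : Set Λ) ⊆ ↑(I ^ (n + 1)) ∧
      (∀ a i, t G (Nat.le_succ i) (z a (i + 1)) = z a i) ∧ ∀ i, x i = ∑ a : s, (a : Λ) • z a i := by
  classical
  obtain ⟨s, hs'⟩ := hI.pow (n := n + 1)
  have hxle : ∀ {i j : ℕ} (h : i ≤ j), t G h (x j) = x i := fun {i j} h => by
    induction j, h using Nat.le_induction with
    | base => exact t_refl G i _
    | succ k hk ih => rw [← t_t G hk (Nat.le_succ k), hx, ih]
  let comb : ∀ j, (s → G.obj (op j)) → G.obj (op j) := fun j y => ∑ a : s, (a : Λ) • y a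
  have hcomb_mem : ∀ j (P : Submodule Λ (G.obj (op j))) z, z ∈ (I ^ (n + 1)) • P →
      ∃ y : s → G.obj (op j), (∀ a, y a ∈ P) ∧ comb j y = z := by
    intro j P z hz
    refine Submodule.smul_induction_on hz (fun r hr m hm => ?_) ?_
    · rw [← hs'] at hr
      obtain ⟨c, -, hc⟩ := Submodule.mem_span_finset.1 hr
      refine ⟨fun a => c a • m, fun a => P.smul_mem _ hm, ?_⟩
      rw [← hc, Finset.sum_smul, ← Finset.sum_coe_sort]
      exact Finset.sum_congr rfl fun a _ => by rw [smul_eq_mul, mul_comm, mul_smul]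
    · rintro z w ⟨y, hy, rfl⟩ ⟨y', hy', rfl⟩
      exact ⟨y + y', fun a => P.add_mem (hy a) (hy' a), by simp [comb, smul_add, Finset.sum_add_distrib]⟩
  have happ : ∀ {i j} (hij : i ≤ j) (y : s → G.obj (op j)),
      t G hij (comb j y) = comb i (fun a => t G hij (y a)) := fun hij y => by
    simp only [comb, map_sum, map_smul]
  have step : ∀ k (y : s → G.obj (op (n + k))), comb (n + k) y = x (n + k) →
      ∃ y' : s → G.obj (op (n + (k + 1))), comb (n + (k + 1)) y' = x (n + (k + 1)) ∧
        ∀ (i : ℕ) (hi : i + 1 ≤ k) a,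
          t G (show i ≤ n + (k + 1) by omega) (y' a) = t G (show i ≤ n + k by omega) (y a) := by
    intro k y hy
    choose l hl using fun a => hs (n + k) (y a)
    have hd := hker (n + k) (x (n + (k + 1)) - comb (n + (k + 1)) l) (by
      rw [map_sub, happ]
      refine sub_eq_zero.2 ((hx (n + k)).trans (hy.symm.trans ?_))
      simp only [hl])
    rw [show I ^ (n + k + 1) = I ^ (n + 1) * I ^ k from by rw [← pow_add]; congr 1; omega,
      Submodule.mul_smul] at hd
    obtain ⟨d, hdP, hdz⟩ := hcomb_mem _ _ _ hd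
    refine ⟨fun a => l a + d a, ?_, fun i hi a => ?_⟩
    · have : comb (n + (k + 1)) (fun a => l a + d a) = comb (n + (k + 1)) l + comb (n + (k + 1)) d := by
        simp [comb, smul_add, Finset.sum_add_distrib]
      rw [this, hdz]
      exact add_sub_cancel _ _
    · rw [map_add, ← hl a, t_t]
      refine add_eq_left.2 ?_
      refine Submodule.smul_induction_on (hdP a) (fun r hr m _ => ?_)
        (fun u v hu hv => by rw [map_add, hu, hv, add_zero])
      rw [map_smul]
      exact hkill i r (Ideal.pow_le_pow_right hi hr) _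
  have base : comb n 0 = x n := by simp [comb, hxn]
  choose y' hy' hcompat using step
  let Y : ∀ k, {y : s → G.obj (op (n + k)) // comb (n + k) y = x (n + k)} :=
    fun k => Nat.rec (motive := fun k => {y : s → G.obj (op (n + k)) // comb (n + k) y = x (n + k)})
      ⟨0, base⟩ (fun k yk => ⟨y' k yk.1 yk.2, hy' k yk.1 yk.2⟩) k
  refine ⟨s, fun a i => t G (show i ≤ n + (i + 1) by omega) ((Y (i + 1)).1 a),
    hs' ▸ Submodule.subset_span, fun a i => ?_, fun i => ?_⟩
  · rw [t_t]
    exact hcompat (i + 1) (Y (i + 1)).1 (Y (i + 1)).2 i le_rfl a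
  · exact (hxle (show i ≤ n + (i + 1) by omega)).symm.trans
      ((congrArg _ (Y (i + 1)).2.symm).trans (happ _ _))

end Groth.EtaleDeep.AdicP
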