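import Groth.Agent.EtaleDeep.DC.Criterion
import Groth.Agent.EtaleDeep.Eps.Module
import Groth.Agent.EtaleDeep.AdicP.Modules
import Groth.Agent.EtaleDeep.AR.Adic
import Groth.Prelude.Def_ARSys
import Mathlib.CategoryTheory.Linear.FunctorCategory

/-!
# Limits of pulled back adic systems on the pro-etale site
-/

set_option autoImplicit false
set_option backward.isDefEq.respectTransparency.types false
set_option linter.style.haveILetI false

universe v v' u' u'' u

open CategoryTheory CategoryTheory.Limits AlgebraicGeometry Opposite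

namespace Groth.EtaleDeep.AdicP

section General

variable {Λ : Type*} [CommRing Λ] {C : Type u'} [Category.{v} C] [Preadditive C] [Linear Λ C]
  {D : Type u''} [Category.{v'} D] [Preadditive D] [Linear Λ D]
  {L : C ⥤ D} {R : D ⥤ C} (adj : L ⊣ R)
  (hR : ∀ {Y Y' : D} (g : Y ⟶ Y') (a : Λ), R.map (a • g) = a • R.map g)

include hR in
lemma homEquiv_smul {X : C} {Y : D} (g : L.obj X ⟶ Y) (a : Λ) :
    adj.homEquiv X Y (a • g) = a • adj.homEquiv X Y g := by
  rw [adj.homEquiv_unit, adj.homEquiv_unit, hR, Linear.comp_smul]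

include adj hR in
lemma map_smul_of_adjunction {X X' : C} (g : X ⟶ X') (a : Λ) : L.map (a • g) = a • L.map g := by
  apply (adj.homEquiv _ _).injective
  rw [homEquiv_smul adj hR, adj.homEquiv_unit, adj.homEquiv_unit]
  have h1 := adj.unit.naturality (a • g)
  have h2 := adj.unit.naturality g
  rw [Functor.id_map, Functor.comp_map] at h1 h2
  rw [← h1, ← h2, Linear.smul_comp]

include adj hR in
theorem killedBy_map (I : Ideal Λ) {X : C} (h : ARSys.KilledBy I X) : ARSys.KilledBy I (L.obj X) :=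
  fun a ha => by
    rw [← L.map_id, ← map_smul_of_adjunction adj hR, h a ha]
    apply (adj.homEquiv _ _).injective
    rw [adj.homEquiv_unit, adj.homEquiv_unit, ← zero_smul Λ (𝟙 X), map_smul_of_adjunction adj hR,
      hR, zero_smul]
    conv_rhs => rw [← zero_smul Λ (0 : L.obj X ⟶ L.obj X), hR, zero_smul]

include adj hR in
/-- Left adjoints of linear functors preserve quotient maps. -/
theorem isQuot_map (I : Ideal Λ) {X Q : C} (p : X ⟶ Q) (h : ARSys.IsQuot I p) :
    ARSys.IsQuot I (L.map p) := by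
  refine ⟨killedBy_map adj hR I h.1, fun Y φ hφ => ?_⟩
  have hk : ARSys.HomKilledBy I (adj.homEquiv _ _ φ) := fun a ha => by
    rw [← homEquiv_smul adj hR, hφ a ha, adj.homEquiv_unit, ← zero_smul Λ (0 : L.obj X ⟶ Y), hR,
      zero_smul, comp_zero]
  obtain ⟨ψ, hψ, hu⟩ := h.2 _ _ hk
  refine ⟨(adj.homEquiv _ _).symm ψ, ?_, fun ψ' hψ' => ?_⟩
  · change L.map p ≫ (adj.homEquiv _ _).symm ψ = φ
    rw [← adj.homEquiv_naturality_left_symm, hψ, Equiv.symm_apply_apply]
  · apply (adj.homEquiv _ _).injective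
    rw [Equiv.apply_symm_apply]
    refine hu _ ?_
    change p ≫ adj.homEquiv _ _ ψ' = _
    rw [← adj.homEquiv_naturality_left, hψ']

include adj hR in
/-- Fully faithful such functors reflect quotient maps. -/
theorem isQuot_of_map [L.Full] [L.Faithful] (I : Ideal Λ) {X Q : C} (p : X ⟶ Q)
    (h : ARSys.IsQuot I (L.map p)) : ARSys.IsQuot I p := by
  have hz : ∀ {A B : C}, L.map (0 : A ⟶ B) = 0 := fun {A B} => by
    rw [← zero_smul Λ (0 : A ⟶ B), map_smul_of_adjunction adj hR, zero_smul]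
  refine ⟨fun a ha => L.map_injective ?_, fun Y φ hφ => ?_⟩
  · rw [map_smul_of_adjunction adj hR, L.map_id, h.1 a ha, hz]
  · obtain ⟨ψ, hψ, hu⟩ := h.2 _ (L.map φ) fun a ha => by
      rw [← map_smul_of_adjunction adj hR, hφ a ha, hz]
    obtain ⟨ψ, rfl⟩ := L.map_surjective ψ
    refine ⟨ψ, L.map_injective ?_, fun ψ' hψ' => L.map_injective (hu _ ?_)⟩
    · rw [L.map_comp]; exact hψ
    · change L.map p ≫ L.map ψ' = L.map φ
      rw [← L.map_comp, hψ']

/-- A map between quotients of one object is a quotient map. -/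
theorem isQuot_of_comp {I J : Ideal Λ} {X Q Q' : C} {p : X ⟶ Q} {q : X ⟶ Q'} {f : Q ⟶ Q'}
    (hp : ARSys.IsQuot I p) (hq : ARSys.IsQuot J q) (hf : p ≫ f = q) : ARSys.IsQuot J f := by
  have huniq : ∀ {Y : C} {a b : Q ⟶ Y}, p ≫ a = p ≫ b → a = b := fun {Y a b} hab => by
    obtain ⟨ψ, -, hu⟩ := hp.2 Y (p ≫ a) fun c hc => by
      rw [← Category.comp_id p, Category.assoc, Category.id_comp, ← Linear.comp_smul]
      have : c • a = (c • 𝟙 Q) ≫ a := by rw [Linear.smul_comp, Category.id_comp]
      rw [this, hp.1 c hc, zero_comp, comp_zero]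
    exact (hu a rfl).trans (hu b hab.symm).symm
  refine ⟨hq.1, fun Y φ hφ => ?_⟩
  obtain ⟨ψ, hψ, hu⟩ := hq.2 Y (p ≫ φ) fun c hc => by rw [← Linear.comp_smul, hφ c hc, comp_zero]
  refine ⟨ψ, huniq (by rw [← Category.assoc, hf]; exact hψ), fun ψ' hψ' => hu ψ' ?_⟩
  change q ≫ ψ' = p ≫ φ
  rw [← hf, Category.assoc, hψ']

end General

variable {Λ : Type (u + 1)} [CommRing Λ] {X : Scheme.{u}} {I : Ideal Λ}

open DC

lemma app_smul {F G : EtModW.ModP Λ X} (φ : F ⟶ G) (a : Λ) (V : X.ProEt) (z : F.obj.obj (op V)) :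
    ((a • φ).hom.app (op V)).hom z = a • (φ.hom.app (op V)).hom z := rfl

/-- A criterion for quotient maps on weakly contractible objects. -/
theorem isQuot_of_WC {F Q : EtModW.ModP Λ X} (p : F ⟶ Q) (hQ : ARSys.KilledBy I Q)
    (hs : ∀ V : X.ProEt, IsAffine V.left → ProEtS.IsWC V → Function.Surjective (p.hom.app (op V)).hom)
    (hk : ∀ V : X.ProEt, IsAffine V.left → ProEtS.IsWC V → ∀ z, (p.hom.app (op V)).hom z = 0 →
      z ∈ I • (⊤ : Submodule Λ (F.obj.obj (op V)))) : ARSys.IsQuot I p := by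
  refine (AR.isQuot_iff p).2 ⟨hQ, ?_, fun T k hk0 W φ hφ => ?_⟩
  · refine Preadditive.epi_of_isZero_cokernel p (isZero_of_WC Λ _ fun V hV hW => ?_)
    have := preservesHomology_R Λ hW
    have := Functor.PreservesHomology.preservesCokernel (R Λ V) p
    have : Epi ((R Λ V).map p) := (ModuleCat.epi_iff_surjective _).2 (hs V hV hW)
    exact (isZero_cokernel_of_epi _).of_iso (PreservesCokernel.iso (R Λ V) p)
  · suffices IsZero (image (k ≫ φ)) by
      rw [← image.fac (k ≫ φ), this.eq_of_src (image.ι (k ≫ φ)) 0, comp_zero]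
    refine isZero_of_WC Λ _ fun V hV hW => ?_
    have : Epi (factorThruImage (k ≫ φ)) := inferInstance
    have h0 : ∀ y, ((k ≫ φ).hom.app (op V)).hom y = 0 := fun y => by
      have hy : (p.hom.app (op V)).hom ((k.hom.app (op V)).hom y) = 0 :=
        ConcreteCategory.congr_hom (congrArg (fun m => m.hom.app (op V)) hk0) y
      change (φ.hom.app (op V)).hom ((k.hom.app (op V)).hom y) = 0
      refine Submodule.smul_induction_on (hk V hV hW _ hy) (fun a ha m _ => ?_)
        (fun u w hu hw => by rw [map_add, hu, hw, add_zero])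
      rw [map_smul, ← app_smul φ a, hφ a ha]
      rfl
    have hι : Function.Injective ((image.ι (k ≫ φ)).hom.app (op V)).hom := by
      have : PreservesFiniteLimits (R Λ V) :=
        have : PreservesLimitsOfSize.{0, 0} (R Λ V) := (adjL Λ V).rightAdjoint_preservesLimits
        PreservesLimitsOfSize.preservesFiniteLimits _
      exact (ModuleCat.mono_iff_injective _).1 (inferInstanceAs (Mono ((R Λ V).map (image.ι (k ≫ φ)))))
    have : Subsingleton ((image (k ≫ φ)).obj.obj (op V)) := by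
      refine subsingleton_of_forall_eq 0 fun z => ?_
      obtain ⟨y, rfl⟩ := surjective_of_epi Λ (factorThruImage (k ≫ φ)) hW z
      refine hι ?_
      rw [map_zero]
      refine Eq.trans ?_ (h0 y)
      exact ConcreteCategory.congr_hom (congrArg (fun m => m.hom.app (op V)) (image.fac (k ≫ φ))) y
    exact @ModuleCat.isZero_of_subsingleton _ _ ((R Λ V).obj (image (k ≫ φ))) this

/-- Sections over weakly contractible objects commute with forming the quotient modulo `I`. -/
theorem sections_of_isQuot (hI : I.FG) {F Q : EtModW.ModP Λ X} (p : F ⟶ Q) (hp : ARSys.IsQuot I p)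
    {V : X.ProEt} (hV : ProEtS.IsWC V) :
    Function.Surjective (p.hom.app (op V)).hom ∧
      LinearMap.ker (p.hom.app (op V)).hom = I • (⊤ : Submodule Λ (F.obj.obj (op V))) := by
  classical
  have : Epi p := AR.IsQuot.epi hp
  refine ⟨surjective_of_epi Λ p hV, le_antisymm (fun z hz => ?_) (Submodule.smul_le.2 fun a ha z _ => ?_)⟩
  · obtain ⟨r, g, hg⟩ := Submodule.fg_iff_exists_fin_generating_family.1 hI
    let γ := biproduct.desc (fun k : Fin r => g k • 𝟙 F)
    let π := cokernel.π γ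
    have hker : ARSys.HomKilledBy I π := fun a ha => by
      rw [← hg] at ha
      induction ha using Submodule.span_induction with
      | mem a ha =>
        obtain ⟨k, rfl⟩ := ha
        have := congrArg (biproduct.ι (fun _ : Fin r => F) k ≫ ·) (cokernel.condition γ)
        simp only [γ, biproduct.ι_desc_assoc, Linear.smul_comp, Category.id_comp, comp_zero] at this
        exact this
      | zero => rw [zero_smul]
      | add a b _ _ ha hb => rw [add_smul, ha, hb, add_zero]
      | smul c a _ ha => rw [smul_eq_mul, mul_smul, ha, smul_zero]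
    obtain ⟨ψ, hψ, -⟩ := hp.2 _ π hker
    have h1 : (π.hom.app (op V)).hom z = 0 := by
      rw [← hψ]
      change (ψ.hom.app (op V)).hom ((p.hom.app (op V)).hom z) = 0
      rw [show (p.hom.app (op V)).hom z = 0 from hz, map_zero]
    have := preservesHomology_R Λ hV
    have hex := (ShortComplex.exact_of_g_is_cokernel
      (ShortComplex.mk γ π (cokernel.condition γ)) (cokernelIsCokernel γ)).map (R Λ V)
    obtain ⟨y, rfl⟩ := (ShortComplex.moduleCat_exact_iff _).1 hex z h1
    let Z := ⨁ fun _ : Fin r => F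
    have happ : ((R Λ V).map γ).hom y =
        ∑ k, g k • ((R Λ V).map (biproduct.π (fun _ : Fin r => F) k)).hom y := by
      rw [show γ = ∑ k, biproduct.π (fun _ : Fin r => F) k ≫ (g k • 𝟙 F) from biproduct.desc_eq,
        Functor.map_sum, ModuleCat.hom_sum, LinearMap.sum_apply]
      rfl
    refine happ ▸ Submodule.sum_mem _ fun k _ => Submodule.smul_mem_smul ?_ Submodule.mem_top
    exact hg ▸ Submodule.subset_span ⟨k, rfl⟩
  · change (p.hom.app (op V)).hom (a • z) = 0
    rw [map_smul]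
    exact ConcreteCategory.congr_hom (congrArg (fun m => m.hom.app (op V)) (hp.1 a ha)) _

variable [ProEtS.EpsCont X]

theorem pushMod_smul {Y Y' : EtModW.ModP Λ X} (g : Y ⟶ Y') (a : Λ) :
    ((ProEtS.eps X).sheafPushforwardContinuous (ModuleCat.{u + 1} Λ) X.smallEtaleTopology
      (Scheme.ProEt.topology X)).map (a • g) = a • ((ProEtS.eps X).sheafPushforwardContinuous
        (ModuleCat.{u + 1} Λ) X.smallEtaleTopology (Scheme.ProEt.topology X)).map g := rfl

/-- The projections of the limit of the pullback of an adic system are quotient maps. -/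
theorem isQuot_limit_π (hI : I.FG) (G : ARSys.PS (EtModW.Mod Λ X)) (hG : ARSys.IsAdic I G) (n : ℕ) :
    ARSys.IsQuot (I ^ (n + 1)) (limit.π (G ⋙ EtModW.epsPullMod Λ X) (op n)) := by
  let L := EtModW.epsPullMod Λ X
  let GP := G ⋙ L
  have hkill : ∀ i, ARSys.KilledBy (I ^ (i + 1)) (GP.obj (op i)) := fun i =>
    killedBy_map (Eps.epsAdjMod Λ) pushMod_smul _ (hG.1 i)
  have hq : ∀ i j (h : i ≤ j), ARSys.IsQuot (I ^ (i + 1)) (GP.map (homOfLE h).op) := fun i j h =>
    isQuot_map (Eps.epsAdjMod Λ) pushMod_smul _ _ (hG.2 i j h)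
  refine isQuot_of_WC _ (hkill n) (fun V hV hW => ?_) (fun V hV hW z hz => ?_)
  all_goals
    let M := GP ⋙ R Λ V
    have hs : ∀ i, Function.Surjective (t M (Nat.le_succ i)) := fun i =>
      (sections_of_isQuot (hI.pow (n := i + 1)) _ (hq i (i + 1) (Nat.le_succ i)) hW).1
    have : PreservesLimitsOfSize.{0, 0} (R Λ V) := (adjL Λ V).rightAdjoint_preservesLimits
    let hc := isLimitOfPreserves (R Λ V) (limit.isLimit GP)
    let hc' := isLimitOfPreserves (forget (ModuleCat.{u + 1} Λ)) hc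
    have mkSec : ∀ x : ∀ i, M.obj (op i), (∀ i, t M (Nat.le_succ i) (x (i + 1)) = x i) →
        ∃ w : (R Λ V).obj (limit GP), ∀ i, ((limit.π GP (op i)).hom.app (op V)).hom w = x i := by
      intro x hx
      have hle : ∀ {i j : ℕ} (h : i ≤ j), t M h (x j) = x i := fun {i j} h => by
        induction j, h using Nat.le_induction with
        | base => exact t_refl M i _
        | succ k hk ih => rw [← t_t M hk (Nat.le_succ k), hx, ih]
      refine ⟨(Types.isLimitEquivSections hc').symm ⟨fun j => x j.unop, fun {j j'} φ => ?_⟩,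
        fun i => Types.isLimitEquivSections_symm_apply hc' _ (op i)⟩
      exact (congrArg (fun e => (M.map e).hom (x j.unop))
        (Quiver.Hom.unop_inj (Subsingleton.elim φ.unop (homOfLE (leOfHom φ.unop))))).trans
        (hle (leOfHom φ.unop))
  · intro z
    obtain ⟨x, hx, hxn⟩ := exists_compat hs n z
    obtain ⟨w, hw⟩ := mkSec x hx
    exact ⟨w, (hw n).trans hxn⟩
  · obtain ⟨s, w, hsI, hw, hsum⟩ := exists_decomposition (G := M) hI
      (fun i a ha y => ConcreteCategory.congr_hom (congrArg (fun m => m.hom.app (op V)) (hkill i a ha)) y)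
      hs (fun i y hy => (sections_of_isQuot (hI.pow (n := i + 1)) _ (hq i (i + 1) (Nat.le_succ i)) hW).2 ▸ hy)
      n (fun i => ((limit.π GP (op i)).hom.app (op V)).hom z)
      (fun i => ConcreteCategory.congr_hom
        (congrArg (fun m => m.hom.app (op V)) (limit.w GP (homOfLE (Nat.le_succ i)).op)) z) hz
    choose W hW' using fun a => mkSec (w a) (hw a)
    have : z = ∑ a : s, (a : Λ) • W a := Concrete.isLimit_ext _ hc _ _ fun j => by
      change ((limit.π GP j).hom.app (op V)).hom z = ((limit.π GP j).hom.app (op V)).hom _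
      rw [map_sum]
      simp only [map_smul]
      refine (hsum j.unop).trans (Finset.sum_congr rfl fun a _ => ?_)
      exact congrArg _ (hW' a j.unop).symm
    rw [this]
    exact Submodule.sum_mem _ fun a _ => Submodule.smul_mem_smul (hsI a.2) Submodule.mem_top

theorem full_faithful (hI : I.FG) :
    (ObjectProperty.ι (fun G : ARSys.PS (EtModW.Mod Λ X) => ARSys.IsAdic I G) ⋙
        ((Functor.whiskeringRight ℕᵒᵖ (EtModW.Mod Λ X) (EtModW.ModP Λ X)).obj (EtModW.epsPullMod Λ X) ⋙ lim)).Full ∧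
    (ObjectProperty.ι (fun G : ARSys.PS (EtModW.Mod Λ X) => ARSys.IsAdic I G) ⋙
        ((Functor.whiskeringRight ℕᵒᵖ (EtModW.Mod Λ X) (EtModW.ModP Λ X)).obj (EtModW.epsPullMod Λ X) ⋙ lim)).Faithful := by
  let L := EtModW.epsPullMod Λ X
  have : ∀ G, IsIso ((Eps.epsAdjMod Λ (X := X)).unit.app G) := Eps.isIso_unitMod Λ
  have : IsIso (Eps.epsAdjMod Λ (X := X)).unit := NatIso.isIso_of_isIso_app _
  have := (Eps.epsAdjMod Λ (X := X)).fullyFaithfulLOfIsIsoUnit.full
  have := (Eps.epsAdjMod Λ (X := X)).fullyFaithfulLOfIsIsoUnit.faithful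
  refine ⟨⟨fun {A B} f => ?_⟩, ⟨fun {A B} a b hab => ?_⟩⟩
  · change limit (A.obj ⋙ L) ⟶ limit (B.obj ⋙ L) at f
    have key : ∀ j : ℕᵒᵖ, ∃ ψ : A.obj.obj j ⟶ B.obj.obj j,
        limit.π (A.obj ⋙ L) j ≫ L.map ψ = f ≫ limit.π (B.obj ⋙ L) j := fun j => by
      obtain ⟨ψ, hψ, -⟩ := (isQuot_limit_π hI A.obj A.property j.unop).2 _
        (f ≫ limit.π (B.obj ⋙ L) j) (AR.homKilledBy_of_killedBy_target _
          (killedBy_map (Eps.epsAdjMod Λ) pushMod_smul _ (B.property.1 j.unop)))
      exact ⟨L.preimage ψ, by rw [L.map_preimage]; exact hψ⟩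
    choose ψ hψ using key
    refine ⟨ObjectProperty.homMk { app := ψ, naturality := fun j k g => L.map_injective ?_ }, ?_⟩
    · have : Epi (limit.π (A.obj ⋙ L) j) := AR.IsQuot.epi (isQuot_limit_π hI A.obj A.property j.unop)
      rw [← cancel_epi (limit.π (A.obj ⋙ L) j), L.map_comp, L.map_comp]
      refine (Category.assoc _ _ _).symm.trans ((congrArg (· ≫ _) (limit.w (A.obj ⋙ L) g)).trans ?_)
      refine (hψ k).trans (Eq.symm ?_)
      refine (Category.assoc _ _ _).symm.trans ((congrArg (· ≫ _) (hψ j)).trans ?_)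
      exact (Category.assoc _ _ _).trans (congrArg (f ≫ ·) (limit.w (B.obj ⋙ L) g))
    · exact limit.hom_ext fun j => (limMap_π _ j).trans (hψ j)
  · apply ObjectProperty.hom_ext
    ext j : 2
    apply L.map_injective
    have : Epi (limit.π (A.obj ⋙ L) j) := AR.IsQuot.epi (isQuot_limit_π hI A.obj A.property j.unop)
    rw [← cancel_epi (limit.π (A.obj ⋙ L) j)]
    have h := congrArg (· ≫ limit.π (B.obj ⋙ L) j) hab
    exact (limMap_π (Functor.whiskerRight a.hom L) j).symm.trans
      (h.trans (limMap_π (Functor.whiskerRight b.hom L) j))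

theorem isAdicP_iff (hI : I.FG) (F : EtModW.ModP Λ X) :
    (∃ (Q : ℕᵒᵖ ⥤ EtModW.ModP Λ X) (p : (Functor.const ℕᵒᵖ).obj F ⟶ Q),
        (∀ n : ℕ, ARSys.IsQuot (I ^ (n + 1)) (p.app (op n))) ∧
        (∀ n : ℕ, ∃ E : EtModW.Mod Λ X, EtModW.IsConstructible Λ E ∧
          Nonempty ((EtModW.epsPullMod Λ X).obj E ≅ Q.obj (op n))) ∧
        IsIso (limit.lift Q (Cone.mk F p))) ↔
      ∃ G : ARSys.PS (EtModW.Mod Λ X), ARSys.IsAdic I G ∧
        (∀ n : ℕ, EtModW.IsConstructible Λ (G.obj (op n))) ∧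
        Nonempty (limit (G ⋙ EtModW.epsPullMod Λ X) ≅ F) := by
  let L := EtModW.epsPullMod Λ X
  have : ∀ G, IsIso ((Eps.epsAdjMod Λ (X := X)).unit.app G) := Eps.isIso_unitMod Λ
  have : IsIso (Eps.epsAdjMod Λ (X := X)).unit := NatIso.isIso_of_isIso_app _
  have := (Eps.epsAdjMod Λ (X := X)).fullyFaithfulLOfIsIsoUnit.full
  have := (Eps.epsAdjMod Λ (X := X)).fullyFaithfulLOfIsIsoUnit.faithful
  constructor
  · rintro ⟨Q, p, hp, hE, hi⟩
    choose E hEc hEi using hE
    let e : ∀ j : ℕᵒᵖ, L.obj (E j.unop) ≅ Q.obj j := fun j => (hEi j.unop).some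
    let G : ARSys.PS (EtModW.Mod Λ X) :=
      { obj := fun j => E j.unop
        map := fun {j k} g => L.preimage ((e j).hom ≫ Q.map g ≫ (e k).inv)
        map_id := fun j => L.map_injective (by simp)
        map_comp := fun {i j k} g h => L.map_injective (by simp) }
    let α : G ⋙ L ≅ Q := NatIso.ofComponents e fun {j k} g => by simp [G]
    refine ⟨G, ⟨fun n a ha => L.map_injective ?_, fun n m h => ?_⟩, hEc,
      ⟨(lim.mapIso α) ≪≫ (@asIso _ _ _ _ _ hi).symm⟩⟩
    · rw [map_smul_of_adjunction (Eps.epsAdjMod Λ) pushMod_smul, L.map_id,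
        (AR.killedBy_of_mono (e (op n)).hom (hp n).1) a ha, ← zero_smul Λ (0 : E n ⟶ E n),
        map_smul_of_adjunction (Eps.epsAdjMod Λ) pushMod_smul, zero_smul]
    · refine isQuot_of_map (Eps.epsAdjMod Λ) pushMod_smul _ _ ?_
      have hpw : ∀ k, ARSys.IsQuot (I ^ (k + 1)) (p.app (op k) ≫ (e (op k)).inv) := fun k => by
        refine (AR.isQuot_iff _).2 ⟨AR.killedBy_of_mono (e (op k)).hom (hp k).1, ?_, fun T z hz => ?_⟩
        · have := AR.IsQuot.epi (hp k)
          exact epi_comp _ _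
        · refine AR.IsQuot.inI (hp k) ?_
          rw [← Category.assoc] at hz
          exact (cancel_mono (e (op k)).inv).1 (hz.trans zero_comp.symm)
      refine isQuot_of_comp (hpw m) (hpw n) ?_
      change (p.app (op m) ≫ (e (op m)).inv) ≫ L.map (L.preimage _) = _
      rw [L.map_preimage, Category.assoc, Iso.inv_hom_id_assoc, ← Category.assoc]
      refine congrArg (· ≫ _) ?_
      exact (p.naturality (homOfLE h).op).symm.trans (Category.id_comp _)
  · rintro ⟨G, hG, hGc, ⟨e⟩⟩
    refine ⟨G ⋙ L, (Functor.const ℕᵒᵖ).map e.inv ≫ (limit.cone (G ⋙ L)).π, fun n => ?_,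
      fun n => ⟨_, hGc n, ⟨Iso.refl _⟩⟩, ?_⟩
    · refine (AR.isQuot_iff _).2 ⟨(isQuot_limit_π hI G hG n).1, ?_, fun T k hk => ?_⟩
      · have := AR.IsQuot.epi (isQuot_limit_π hI G hG n)
        exact epi_comp e.inv (limit.π (G ⋙ L) (op n))
      · have := (AR.IsQuot.inI (isQuot_limit_π hI G hG n) (k := k ≫ e.inv)
          ((Category.assoc _ _ _).trans hk)).comp e.hom
        simpa using this
    · have : limit.lift (G ⋙ L) (Cone.mk F ((Functor.const ℕᵒᵖ).map e.inv ≫ (limit.cone (G ⋙ L)).π)) =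
          e.inv := limit.hom_ext fun j => limit.lift_π _ j
      rw [this]
      infer_instance

end Groth.EtaleDeep.AdicP
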