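import Groth.Agent.EtaleDeep.AdicP.ML
import Groth.Agent.EtaleDeep.AdicP.Limit
import Groth.Agent.EtaleDeep.AR.Core

/-!
# Exactness of the limit of pulled back systems
-/

set_option autoImplicit false
set_option backward.isDefEq.respectTransparency.types false
set_option linter.style.haveILetI false

universe u

open CategoryTheory CategoryTheory.Limits AlgebraicGeometry Opposite

namespace Groth.EtaleDeep.AdicP

open DC

variable {Λ : Type (u + 1)} [CommRing Λ] {X : Scheme.{u}}

/-- A map which is surjective on affine weakly contractible objects is an epimorphism. -/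
theorem epi_of_WC {F G : EtModW.ModP Λ X} (p : F ⟶ G)
    (h : ∀ V : X.ProEt, IsAffine V.left → ProEtS.IsWC V → Function.Surjective (p.hom.app (op V)).hom) :
    Epi p := by
  refine Preadditive.epi_of_isZero_cokernel p (isZero_of_WC Λ _ fun V hV hW => ?_)
  have := preservesHomology_R Λ hW
  have := Functor.PreservesHomology.preservesCokernel (R Λ V) p
  have : Epi ((R Λ V).map p) := (ModuleCat.epi_iff_surjective _).2 (h V hV hW)
  exact (isZero_cokernel_of_epi _).of_iso (PreservesCokernel.iso (R Λ V) p)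

/-- Sections on weakly contractible objects of a limit of sheaves. -/
theorem exists_section (G : ℕᵒᵖ ⥤ EtModW.ModP Λ X) (V : X.ProEt)
    (x : ∀ i, (G.obj (op i)).obj.obj (op V))
    (hx : ∀ i, t (G ⋙ R Λ V) (Nat.le_succ i) (x (i + 1)) = x i) :
    ∃ w : (R Λ V).obj (limit G), ∀ i, ((limit.π G (op i)).hom.app (op V)).hom w = x i := by
  let M := G ⋙ R Λ V
  have : PreservesLimitsOfSize.{0, 0} (R Λ V) := (adjL Λ V).rightAdjoint_preservesLimits
  let hc := isLimitOfPreserves (R Λ V) (limit.isLimit G)
  let hc' := isLimitOfPreserves (forget (ModuleCat.{u + 1} Λ)) hc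
  have hle : ∀ {i j : ℕ} (h : i ≤ j), t M h (x j) = x i := fun {i j} h => by
    induction j, h using Nat.le_induction with
    | base => exact t_refl M i _
    | succ k hk ih => rw [← t_t M hk (Nat.le_succ k), hx, ih]
  refine ⟨(Types.isLimitEquivSections hc').symm ⟨fun j => x j.unop, fun {j j'} φ => ?_⟩,
    fun i => Types.isLimitEquivSections_symm_apply hc' _ (op i)⟩
  exact (congrArg (fun e => (M.map e).hom (x j.unop))
    (Quiver.Hom.unop_inj (Subsingleton.elim φ.unop (homOfLE (leOfHom φ.unop))))).trans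
    (hle (leOfHom φ.unop))

/-- Compatible families are determined by their sections. -/
theorem section_ext (G : ℕᵒᵖ ⥤ EtModW.ModP Λ X) (V : X.ProEt) (w w' : (R Λ V).obj (limit G))
    (h : ∀ i, ((limit.π G (op i)).hom.app (op V)).hom w = ((limit.π G (op i)).hom.app (op V)).hom w') :
    w = w' := by
  have : PreservesLimitsOfSize.{0, 0} (R Λ V) := (adjL Λ V).rightAdjoint_preservesLimits
  exact Concrete.isLimit_ext _ (isLimitOfPreserves (R Λ V) (limit.isLimit G)) w w' fun j => h j.unop

variable [ProEtS.EpsCont X]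

theorem additive_epsPullMod : (EtModW.epsPullMod Λ X).Additive := by
  have : PreservesFiniteColimits (EtModW.epsPullMod Λ X) := by
    have : PreservesColimitsOfSize.{0, 0} (EtModW.epsPullMod Λ X) :=
      (Eps.epsAdjMod Λ (X := X)).leftAdjoint_preservesColimits
    exact PreservesColimitsOfSize.preservesFiniteColimits (EtModW.epsPullMod Λ X)
  have : PreservesBinaryBiproducts (EtModW.epsPullMod Λ X) :=
    preservesBinaryBiproducts_of_preservesBinaryCoproducts _
  exact Functor.additive_of_preservesBinaryBiproducts _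

/-- `ε⁻¹` followed by sections on a weakly contractible object is right exact. -/
theorem exact_sections {S : ShortComplex (EtModW.Mod Λ X)} (hS : S.Exact) [Epi S.g] {V : X.ProEt}
    (hV : ProEtS.IsWC V) :
    (∀ y, (((EtModW.epsPullMod Λ X).map S.g).hom.app (op V)).hom y = 0 →
      ∃ x, (((EtModW.epsPullMod Λ X).map S.f).hom.app (op V)).hom x = y) ∧
    (∀ x, (((EtModW.epsPullMod Λ X).map S.g).hom.app (op V)).hom
      ((((EtModW.epsPullMod Λ X).map S.f).hom.app (op V)).hom x) = 0) ∧
    Function.Surjective (((EtModW.epsPullMod Λ X).map S.g).hom.app (op V)).hom := by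
  let L := EtModW.epsPullMod Λ X
  have := additive_epsPullMod (Λ := Λ) (X := X)
  have : PreservesColimitsOfSize.{0, 0} (EtModW.epsPullMod Λ X) :=
      (Eps.epsAdjMod Λ (X := X)).leftAdjoint_preservesColimits
  have : PreservesFiniteColimits L := PreservesColimitsOfSize.preservesFiniteColimits L
  have := preservesHomology_R Λ hV
  let T : ShortComplex (EtModW.ModP Λ X) := S.map L
  have hT : T.Exact := by
    have hg := (hS.gIsCokernel)
    exact ShortComplex.exact_of_g_is_cokernel T (CokernelCofork.mapIsColimit _ hg L)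
  have hR := hT.map (R Λ V)
  refine ⟨fun y hy => (ShortComplex.moduleCat_exact_iff _).1 hR y hy,
    fun x => ConcreteCategory.congr_hom (T.map (R Λ V)).zero x, ?_⟩
  exact surjective_of_epi Λ (L.map S.g) hV

/-- The limit of pulled back systems preserves epimorphisms with kernel adic up to translation. -/
theorem epi_limMap (I : Ideal Λ) (S : ShortComplex (ARSys.PS (EtModW.Mod Λ X))) (hS : S.ShortExact)
    (hA : ∃ (Y : ARSys.PS (EtModW.Mod Λ X)) (v : Y ⟶ S.X₁), ARSys.IsAdic I Y ∧ ARSys.IsARIso v) :
    Epi (limMap (Functor.whiskerRight S.g (EtModW.epsPullMod Λ X))) := by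
  let L := EtModW.epsPullMod Λ X
  obtain ⟨Y, v, hY, hv⟩ := hA
  obtain ⟨r, -, hr⟩ := (AR.isARIso_iff v).1 hv
  refine epi_of_WC _ fun V hV hW c => ?_
  let SA := S.X₁ ⋙ L ⋙ R Λ V
  have hex := fun n =>
    have : Epi (S.map ((evaluation ℕᵒᵖ (EtModW.Mod Λ X)).obj (op n))).g := (AR.shortExact_app hS n).2.1
    exact_sections (AR.shortExact_app hS n).2.2 hW
  have hstab : ∀ n (a : SA.obj (op (r + n))), ∃ x : ∀ i, SA.obj (op i),
      (∀ i, t SA (Nat.le_succ i) (x (i + 1)) = x i) ∧ x n = t SA (Nat.le_add_left n r) a := by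
    intro n a
    let K : ShortComplex (EtModW.Mod Λ X) :=
      ShortComplex.mk (v.app (op n)) (cokernel.π (v.app (op n))) (cokernel.condition _)
    have hK : K.Exact := ShortComplex.exact_of_g_is_cokernel K (cokernelIsCokernel _)
    have : Epi K.g := inferInstanceAs (Epi (cokernel.π _))
    have h0 : ARSys.tr S.X₁ (Nat.le_add_left n r) ≫ cokernel.π (v.app (op n)) = 0 :=
      hr _ (Nat.le_of_eq (Nat.add_comm n r)) _ (cokernel.condition _)
    have := additive_epsPullMod (Λ := Λ) (X := X)
    obtain ⟨y, hy⟩ := (exact_sections hK hW).1 (t SA (Nat.le_add_left n r) a) (by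
      refine Eq.trans ?_ (ConcreteCategory.congr_hom (congrArg (fun m => m.hom.app (op V))
        ((L.map_comp (ARSys.tr S.X₁ (Nat.le_add_left n r)) _).symm.trans
          ((congrArg L.map h0).trans (L.map_zero _ _)))) a)
      rfl)
    have hsY : ∀ i, Function.Surjective (t (Y ⋙ L ⋙ R Λ V) (Nat.le_succ i)) := fun i => by
      have : Epi (ARSys.tr Y (Nat.le_succ i)) := AR.IsQuot.epi (hY.2 i (i + 1) (Nat.le_succ i))
      have : PreservesColimitsOfSize.{0, 0} (EtModW.epsPullMod Λ X) :=
      (Eps.epsAdjMod Λ (X := X)).leftAdjoint_preservesColimits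
      exact surjective_of_epi Λ (L.map (ARSys.tr Y (Nat.le_succ i))) hW
    obtain ⟨x, hx, hxn⟩ := exists_compat hsY n y
    refine ⟨fun i => ((L.map (v.app (op i))).hom.app (op V)).hom (x i), fun i => ?_, ?_⟩
    · have hn := ConcreteCategory.congr_hom
        ((Functor.whiskerRight v (L ⋙ R Λ V)).naturality (homOfLE (Nat.le_succ i)).op) (x (i + 1))
      exact hn.symm.trans (congrArg _ (hx i))
    · exact (congrArg _ hxn).trans hy
  obtain ⟨b, hb, hbc⟩ := exists_lift_of_stable (Functor.whiskerRight S.f (L ⋙ R Λ V))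
    (Functor.whiskerRight S.g (L ⋙ R Λ V)) (fun n => (hex n).2.1) (fun n => (hex n).1)
    (fun n => (hex n).2.2) r hstab
    (fun i => ((limit.π (S.X₃ ⋙ L) (op i)).hom.app (op V)).hom c)
    (fun i => ConcreteCategory.congr_hom
      (congrArg (fun m => m.hom.app (op V)) (limit.w (S.X₃ ⋙ L) (homOfLE (Nat.le_succ i)).op)) c)
  obtain ⟨w, hw⟩ := exists_section (S.X₂ ⋙ L) V b hb
  refine ⟨w, section_ext (S.X₃ ⋙ L) V _ _ fun i => ?_⟩
  refine Eq.trans ?_ ((congrArg _ (hw i)).trans (hbc i))
  exact ConcreteCategory.congr_hom (congrArg (fun m => m.hom.app (op V))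
    (limMap_π (Functor.whiskerRight S.g L) (op i))) w

end Groth.EtaleDeep.AdicP
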