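import Groth.Agent.EtaleDeep.AdicP.Limit
import Groth.Agent.EtaleDeep.AdicP.LimEpi
import Groth.Agent.EtaleDeep.Cons.ProEt
import Groth.Agent.EtaleDeep.Cons.ARSystems

/-!
# Kernels, cokernels and chains of adic pro-etale sheaves
-/

set_option autoImplicit false
set_option backward.isDefEq.respectTransparency.types false
set_option linter.style.haveILetI false

universe u

open CategoryTheory CategoryTheory.Limits AlgebraicGeometry Opposite

namespace Groth.EtaleDeep.AdicP

variable {Λ : Type (u + 1)} [CommRing Λ] {X : Scheme.{u}} [ProEtS.EpsCont X]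

variable (Λ X) in
/-- The limit of the pulled back system. -/
noncomputable abbrev limEps : ARSys.PS (EtModW.Mod Λ X) ⥤ EtModW.ModP Λ X :=
  (Functor.whiskeringRight ℕᵒᵖ (EtModW.Mod Λ X) (EtModW.ModP Λ X)).obj (EtModW.epsPullMod Λ X) ⋙ lim

theorem preservesFiniteLimits_limEps : PreservesFiniteLimits (limEps Λ X) := by
  have := Cons.preservesFiniteLimits_epsPullMod (Λ := Λ) (X := X)
  have : PreservesFiniteLimits ((Functor.whiskeringRight ℕᵒᵖ (EtModW.Mod Λ X) (EtModW.ModP Λ X)).obj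
      (EtModW.epsPullMod Λ X)) := ⟨fun J _ _ => inferInstance⟩
  have : PreservesLimitsOfSize.{0, 0} (lim : (ℕᵒᵖ ⥤ EtModW.ModP Λ X) ⥤ EtModW.ModP Λ X) :=
    constLimAdj.rightAdjoint_preservesLimits
  have : PreservesFiniteLimits (lim : (ℕᵒᵖ ⥤ EtModW.ModP Λ X) ⥤ EtModW.ModP Λ X) :=
    PreservesLimitsOfSize.preservesFiniteLimits _
  exact comp_preservesFiniteLimits _ _

theorem additive_limEps : (limEps Λ X).Additive := by
  have := preservesFiniteLimits_limEps (Λ := Λ) (X := X)
  have : PreservesBinaryBiproducts (limEps Λ X) := preservesBinaryBiproducts_of_preservesBinaryProducts _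
  exact Functor.additive_of_preservesBinaryBiproducts _

/-- Isomorphisms up to translation become isomorphisms. -/
theorem isIso_limEps {A B : ARSys.PS (EtModW.Mod Λ X)} (v : A ⟶ B) (hv : ARSys.IsARIso v) :
    IsIso ((limEps Λ X).map v) := by
  have := additive_epsPullMod (Λ := Λ) (X := X)
  have := Cons.preservesFiniteLimits_epsPullMod (Λ := Λ) (X := X)
  have : PreservesFiniteColimits (EtModW.epsPullMod Λ X) :=
    have : PreservesColimitsOfSize.{0, 0} (EtModW.epsPullMod Λ X) :=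
      (Eps.epsAdjMod Λ (X := X)).leftAdjoint_preservesColimits
    PreservesColimitsOfSize.preservesFiniteColimits _
  exact Groth.Agent.S13621.result _ (AR.isARIso_map (EtModW.epsPullMod Λ X) v hv)

variable (I : Ideal Λ)

/-- Adic pro-etale sheaves. -/
abbrev IsAdicPSheaf (F : EtModW.ModP Λ X) : Prop :=
  ∃ (Q : ℕᵒᵖ ⥤ EtModW.ModP Λ X) (p : (Functor.const ℕᵒᵖ).obj F ⟶ Q),
    (∀ n : ℕ, ARSys.IsQuot (I ^ (n + 1)) (p.app (op n))) ∧
    (∀ n : ℕ, ∃ E : EtModW.Mod Λ X, EtModW.IsConstructible Λ E ∧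
      Nonempty ((EtModW.epsPullMod Λ X).obj E ≅ Q.obj (op n))) ∧
    IsIso (limit.lift Q (Cone.mk F p))

variable [IsNoetherianRing Λ]

theorem isAdicPSheaf_of_iso {F : EtModW.ModP Λ X} {A : ARSys.PS (EtModW.Mod Λ X)}
    (hA : Cons.IsARAdicCons I A) (e : (limEps Λ X).obj A ≅ F) : IsAdicPSheaf I F := by
  obtain ⟨-, Y, v, hY, hYc, hv⟩ := hA
  have := isIso_limEps v hv
  exact (isAdicP_iff (IsNoetherian.noetherian I) F).2
    ⟨Y, hY, hYc, ⟨asIso ((limEps Λ X).map v) ≪≫ e⟩⟩

/-- Morphisms of adic sheaves come from morphisms of adic systems. -/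
theorem exists_map_eq {A B : ARSys.PS (EtModW.Mod Λ X)} (hA : ARSys.IsAdic I A) (hB : ARSys.IsAdic I B)
    (f : (limEps Λ X).obj A ⟶ (limEps Λ X).obj B) : ∃ f₀ : A ⟶ B, (limEps Λ X).map f₀ = f := by
  obtain ⟨g, hg⟩ := (full_faithful (Λ := Λ) (X := X) (IsNoetherian.noetherian I)).1.map_surjective
    (X := (⟨A, hA⟩ : ObjectProperty.FullSubcategory _)) (Y := ⟨B, hB⟩) f
  exact ⟨g.hom, hg⟩

theorem map_injective_of_isAdic {A B : ARSys.PS (EtModW.Mod Λ X)} (hA : ARSys.IsAdic I A)
    (hB : ARSys.IsAdic I B) {f g : A ⟶ B} (h : (limEps Λ X).map f = (limEps Λ X).map g) : f = g :=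
  congrArg (fun t => t.hom) ((full_faithful (Λ := Λ) (X := X) (IsNoetherian.noetherian I)).2.map_injective
    (X := (⟨A, hA⟩ : ObjectProperty.FullSubcategory _)) (Y := ⟨B, hB⟩)
    (a₁ := ObjectProperty.homMk f) (a₂ := ObjectProperty.homMk g) h)

omit [IsNoetherianRing Λ] in
/-- Epimorphisms with kernel adic up to translation stay epimorphisms. -/
theorem epi_limEps {A B : ARSys.PS (EtModW.Mod Λ X)} (q : A ⟶ B) [Epi q]
    (h : ARSys.IsARAdic I (kernel q)) [IsNoetherianRing Λ] : Epi ((limEps Λ X).map q) := by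
  obtain ⟨-, Y, v, hY, hv⟩ := h
  exact epi_limMap I _ (AR.shortExact_kernel q) ⟨Y, v, hY, hv⟩

variable [AlgebraicGeometry.IsNoetherian X]

omit [ProEtS.EpsCont X] in
theorem isAdicNoeth {A : ARSys.PS (EtModW.Mod Λ X)} (hA : ARSys.IsAdic I A)
    (hAc : ∀ n : ℕ, EtModW.IsConstructible Λ (A.obj (op n))) : ARSys.IsAdicNoeth I A :=
  ⟨hA, fun n => Cons.isNoetherianObject_of_isConstructible (hAc n)⟩

/-- Kernels and cokernels of morphisms of adic pro-etale sheaves are adic. -/
theorem isAdicPSheaf_kernel_cokernel {F G : EtModW.ModP Λ X} (hF : IsAdicPSheaf I F) (hG : IsAdicPSheaf I G)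
    (w : F ⟶ G) : IsAdicPSheaf I (kernel w) ∧ IsAdicPSheaf I (cokernel w) := by
  obtain ⟨A, hA, hAc, ⟨eA⟩⟩ := (isAdicP_iff (IsNoetherian.noetherian I) F).1 hF
  obtain ⟨B, hB, hBc, ⟨eB⟩⟩ := (isAdicP_iff (IsNoetherian.noetherian I) G).1 hG
  obtain ⟨w₀, hw₀⟩ := exists_map_eq I hA hB (eA.hom ≫ w ≫ eB.inv)
  have hw : (limEps Λ X).map w₀ ≫ eB.hom = eA.hom ≫ w := by rw [hw₀]; simp
  obtain ⟨hk, hc⟩ := Cons.isARAdicCons_kernel_cokernel I hA hB hAc hBc w₀
  have := preservesFiniteLimits_limEps (Λ := Λ) (X := X)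
  have := additive_limEps (Λ := Λ) (X := X)
  refine ⟨isAdicPSheaf_of_iso I hk
    (PreservesKernel.iso (limEps Λ X) w₀ ≪≫ kernel.mapIso _ w eA eB hw), ?_⟩
  have hfac : Epi ((limEps Λ X).map (Abelian.factorThruImage w₀)) := by
    refine epi_limEps I _ ?_
    have h0 := (AR.exists_kernel_adic w₀ (isAdicNoeth I hA hAc) (isAdicNoeth I hB hBc)).1
    let e : kernel w₀ ≅ kernel (Abelian.factorThruImage w₀) :=
      kernelIsoOfEq (Abelian.image.fac w₀).symm ≪≫ kernelCompMono _ _
    exact AR.isARAdic_of_arIso (AR.isARIso_of_isIso e.hom) h0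
      (AR.termKilled_of_mono (kernel.ι _) hA.1)
  let S := ShortComplex.mk (Abelian.image.ι w₀) (cokernel.π w₀) (by
    rw [← cancel_epi (Abelian.factorThruImage w₀), ← Category.assoc, Abelian.image.fac,
      cokernel.condition, comp_zero])
  have hS : S.ShortExact :=
    { exact := ShortComplex.exact_of_f_is_kernel _ (kernelIsKernel (cokernel.π w₀))
      mono_f := inferInstanceAs (Mono (Abelian.image.ι w₀))
      epi_g := inferInstanceAs (Epi (cokernel.π w₀)) }
  have hπ : Epi ((limEps Λ X).map (cokernel.π w₀)) := by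
    obtain ⟨-, Y, v, hY, hv⟩ := AR.isARAdic_image w₀ hA (isAdicNoeth I hB hBc)
    exact epi_limMap I S hS ⟨Y, v, hY, hv⟩
  let T := ShortComplex.mk ((limEps Λ X).map w₀) ((limEps Λ X).map (cokernel.π w₀)) (by
    rw [← Functor.map_comp, cokernel.condition, Functor.map_zero])
  have hT : T.Exact := by
    rw [ShortComplex.exact_iff_exact_up_to_refinements]
    intro W x hx
    have : Mono S.f := hS.mono_f
    have hSm : (S.map (limEps Λ X)).Exact := hS.exact.map_of_mono_of_preservesKernel _ hS.mono_f inferInstance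
    have : Mono (S.map (limEps Λ X)).f := inferInstanceAs (Mono ((limEps Λ X).map S.f))
    let l := hSm.lift x hx
    obtain ⟨W', π, _, y, hy⟩ := surjective_up_to_refinements_of_epi
      ((limEps Λ X).map (Abelian.factorThruImage w₀)) l
    refine ⟨W', π, inferInstance, y, ?_⟩
    show π ≫ x = y ≫ (limEps Λ X).map w₀
    refine (congrArg (π ≫ ·) (hSm.lift_f x hx).symm).trans ?_
    refine (Category.assoc _ _ _).symm.trans ((congrArg (· ≫ _) hy).trans ((Category.assoc _ _ _).trans ?_))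
    refine congrArg (y ≫ ·) ?_
    show (limEps Λ X).map _ ≫ (limEps Λ X).map (Abelian.image.ι w₀) = _
    rw [← Functor.map_comp, Abelian.image.fac]
  have : Epi T.g := hπ
  exact isAdicPSheaf_of_iso I hc
    ((hT.gIsCokernel.coconePointUniqueUpToIso (cokernelIsCokernel _)) ≪≫ cokernel.mapIso _ w eA eB hw)

/-- Chains of adic subsheaves of adic pro-etale sheaves are stationary. -/
theorem chain_stationary {F : EtModW.ModP Λ X} (hF : IsAdicPSheaf I F) (Z : ℕ →o Subobject F)
    (hZ : ∀ k : ℕ, IsAdicPSheaf I (Subobject.underlying.obj (Z k))) :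
    ∃ k₀ : ℕ, ∀ k : ℕ, k₀ ≤ k → Z k = Z k₀ := by
  obtain ⟨G, hG, hGc, ⟨eF⟩⟩ := (isAdicP_iff (IsNoetherian.noetherian I) F).1 hF
  choose A hA hAc heA using fun k => (isAdicP_iff (IsNoetherian.noetherian I) _).1 (hZ k)
  let e := fun k => (heA k).some
  choose j hj using fun k => exists_map_eq I (hA k) hG ((e k).hom ≫ (Z k).arrow ≫ eF.inv)
  choose h hh using fun k => exists_map_eq I (hA k) (hA (k + 1))
    ((e k).hom ≫ Subobject.ofLE (Z k) (Z (k + 1)) (Z.monotone (Nat.le_succ k)) ≫ (e (k + 1)).inv)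
  have hcomp : ∀ k, h k ≫ j (k + 1) = j k := fun k => map_injective_of_isAdic I (hA k) hG (by
    rw [Functor.map_comp, hh, hj, hj]
    simp [Category.assoc])
  have hle : ∀ k, imageSubobject (j k) ≤ imageSubobject (j (k + 1)) := fun k => by
    rw [← hcomp k]
    exact imageSubobject_comp_le _ _
  obtain ⟨k₀, hk₀⟩ := AR.strict_chain_stationary (isAdicNoeth I hG hGc)
    ⟨fun k => imageSubobject (j k), monotone_nat_of_le_succ hle⟩
    (fun k => AR.isStrict_of_epi (factorThruImageSubobject (j k)) (AR.isStrict_of_isAdic (hA k)))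
  have := preservesFiniteLimits_limEps (Λ := Λ) (X := X)
  have key : ∀ k, Z k = Subobject.mk ((limEps Λ X).map (imageSubobject (j k)).arrow ≫ eF.hom) := fun k => by
    let q := factorThruImageSubobject (j k)
    have hq : q ≫ (imageSubobject (j k)).arrow = j k := imageSubobject_arrow_comp _
    have : Epi ((limEps Λ X).map q) := by
      refine epi_limEps I q ?_
      have h0 := (AR.exists_kernel_adic (j k) (isAdicNoeth I (hA k) (hAc k)) (isAdicNoeth I hG hGc)).1
      let e : kernel (j k) ≅ kernel q := kernelIsoOfEq hq.symm ≪≫ kernelCompMono _ _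
      exact AR.isARAdic_of_arIso (AR.isARIso_of_isIso e.hom) h0
        (AR.termKilled_of_mono (kernel.ι _) (hA k).1)
    have : Mono ((limEps Λ X).map q ≫ (limEps Λ X).map (imageSubobject (j k)).arrow) := by
      rw [← Functor.map_comp, hq, hj]
      infer_instance
    have : Mono ((limEps Λ X).map q) := mono_of_mono _ ((limEps Λ X).map (imageSubobject (j k)).arrow)
    have : IsIso ((limEps Λ X).map q) := isIso_of_mono_of_epi _
    refine Subobject.eq_mk_of_comm _ ((e k).symm ≪≫ asIso ((limEps Λ X).map q)) ?_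
    rw [Iso.trans_hom, asIso_hom, Iso.symm_hom, Category.assoc, ← Category.assoc ((limEps Λ X).map q),
      ← Functor.map_comp, hq, hj]
    simp
  exact ⟨k₀, fun k hk => (key k).trans ((congrArg (fun W : Subobject G =>
    Subobject.mk ((limEps Λ X).map W.arrow ≫ eF.hom)) (hk₀ k hk)).trans (key k₀).symm)⟩

end Groth.EtaleDeep.AdicP
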