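import Groth.Agent.EtaleDeep.AdicP.Push
import Groth.Agent.EtaleDeep.AdicP.Limit
import Groth.Prelude.Def_FixPt
import Mathlib.CategoryTheory.Adjunction.Unique

/-!
# Inverse images and pulling back to the pro-etale site
-/

set_option autoImplicit false
set_option backward.isDefEq.respectTransparency.types false
set_option linter.style.haveILetI false

universe u

open CategoryTheory CategoryTheory.Limits AlgebraicGeometry Opposite

namespace Groth.EtaleDeep.AdicP

variable (Λ : Type (u + 1)) [CommRing Λ] {T X : Scheme.{u}} (g : T ⟶ X) [ProEtS.PCont g]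
  [ProEtS.EpsCont T] [ProEtS.EpsCont X]

/-- Pulling back to the pro-etale site commutes with inverse images. -/
theorem nonempty_epsPullMod_comp_pull :
    Nonempty (EtModW.epsPullMod Λ X ⋙ (ProEtS.bcP g).sheafPullback (ModuleCat.{u + 1} Λ)
        (Scheme.ProEt.topology X) (Scheme.ProEt.topology T) ≅
      EtModW.pull Λ g ⋙ EtModW.epsPullMod Λ T) := by
  let i : ProEtS.eps X ⋙ ProEtS.bcP g ≅ EtCoh.bc g ⋙ ProEtS.eps T :=
    NatIso.ofComponents (fun V => MorphismProperty.Over.isoMk (Iso.refl _) (Category.id_comp _))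
      (fun g => MorphismProperty.Over.Hom.ext
        ((Category.comp_id _).trans (Category.id_comp _).symm))
  let R := fun (Y : Scheme.{u}) [ProEtS.EpsCont Y] => (ProEtS.eps Y).sheafPushforwardContinuous
    (ModuleCat.{u + 1} Λ) Y.smallEtaleTopology (Scheme.ProEt.topology Y)
  let e : R T ⋙ EtModW.push Λ g ≅ pushPM Λ g ⋙ R X :=
    NatIso.ofComponents
      (fun N => (fullyFaithfulSheafToPresheaf _ _).preimageIso (Functor.isoWhiskerRight (NatIso.op i) N.obj))
      (fun {N N'} φ => by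
        apply Sheaf.hom_ext
        refine NatTrans.ext (funext fun V => ?_)
        exact (φ.hom.naturality (i.hom.app V.unop).op).symm)
  exact ⟨((Eps.epsAdjMod Λ (X := X)).comp
    ((ProEtS.bcP g).sheafAdjunctionContinuous (ModuleCat.{u + 1} Λ) (Scheme.ProEt.topology X)
      (Scheme.ProEt.topology T))).leftAdjointUniq
    (((FixPt.pullPushAdj (Λ := Λ) g).comp (Eps.epsAdjMod Λ (X := T))).ofNatIsoRight e)⟩

variable {Λ} {I : Ideal Λ}

omit [ProEtS.PCont g] [ProEtS.EpsCont T] in
/-- The etale system underlying a tower of quotients. -/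
theorem exists_tower {F : EtModW.ModP Λ X} (Q : ℕᵒᵖ ⥤ EtModW.ModP Λ X)
    (p : (Functor.const ℕᵒᵖ).obj F ⟶ Q) (hp : ∀ n : ℕ, ARSys.IsQuot (I ^ (n + 1)) (p.app (op n)))
    (hE : ∀ n : ℕ, ∃ E : EtModW.Mod Λ X, EtModW.IsConstructible Λ E ∧
      Nonempty ((EtModW.epsPullMod Λ X).obj E ≅ Q.obj (op n))) :
    ∃ G : ARSys.PS (EtModW.Mod Λ X), ARSys.IsAdic I G ∧
      (∀ n : ℕ, EtModW.IsConstructible Λ (G.obj (op n))) ∧
      Nonempty (G ⋙ EtModW.epsPullMod Λ X ≅ Q) := by
  let L := EtModW.epsPullMod Λ X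
  have : ∀ G, IsIso ((Eps.epsAdjMod Λ (X := X)).unit.app G) := Eps.isIso_unitMod Λ
  have : IsIso (Eps.epsAdjMod Λ (X := X)).unit := NatIso.isIso_of_isIso_app _
  have := (Eps.epsAdjMod Λ (X := X)).fullyFaithfulLOfIsIsoUnit.full
  have := (Eps.epsAdjMod Λ (X := X)).fullyFaithfulLOfIsIsoUnit.faithful
  choose E hEc hEi using hE
  let e : ∀ j : ℕᵒᵖ, L.obj (E j.unop) ≅ Q.obj j := fun j => (hEi j.unop).some
  let G : ARSys.PS (EtModW.Mod Λ X) :=
    { obj := fun j => E j.unop
      map := fun {j k} g => L.preimage ((e j).hom ≫ Q.map g ≫ (e k).inv)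
      map_id := fun j => L.map_injective (by simp)
      map_comp := fun {i j k} g h => L.map_injective (by simp) }
  let α : G ⋙ L ≅ Q := NatIso.ofComponents e fun {j k} g => by simp [G]
  refine ⟨G, ⟨fun n a ha => L.map_injective ?_, fun n m h => ?_⟩, hEc, ⟨α⟩⟩
  · rw [map_smul_of_adjunction (Eps.epsAdjMod Λ) pushMod_smul, L.map_id,
      (AR.killedBy_of_mono (e (op n)).hom (hp n).1) a ha, ← zero_smul Λ (0 : E n ⟶ E n),
      map_smul_of_adjunction (Eps.epsAdjMod Λ) pushMod_smul, zero_smul]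
  · refine isQuot_of_map (Eps.epsAdjMod Λ) pushMod_smul _ _ ?_
    have hpw : ∀ k, ARSys.IsQuot (I ^ (k + 1)) (p.app (op k) ≫ (e (op k)).inv) := fun k => by
      refine (AR.isQuot_iff _).2 ⟨AR.killedBy_of_mono (e (op k)).hom (hp k).1, ?_, fun T z hz => ?_⟩
      · have := AR.IsQuot.epi (hp k)
        exact epi_comp _ _
      · refine AR.IsQuot.inI (hp k) ?_
        rw [← Category.assoc] at hz
        exact (cancel_mono (e (op k)).inv).1 (hz.trans zero_comp.symm)
    refine isQuot_of_comp (hpw m) (hpw n) ?_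
    change (p.app (op m) ≫ (e (op m)).inv) ≫ L.map (L.preimage _) = _
    rw [L.map_preimage, Category.assoc, Iso.inv_hom_id_assoc, ← Category.assoc]
    refine congrArg (· ≫ _) ?_
    exact (p.naturality (homOfLE h).op).symm.trans (Category.id_comp _)

end Groth.EtaleDeep.AdicP
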