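import Groth.Agent.EtaleDeep.AdicP.Recollement
import Groth.Agent.EtaleDeep.AdicP.PullEps
import Groth.Agent.EtaleDeep.Cons.ProEt
import Groth.Agent.EtaleDeep.Cons.Strata
import Groth.Agent.EtaleBase.InjCoh

/-!
# The essential image of pulling back to the pro-etale site is local and constructible-local
-/

set_option autoImplicit false
set_option backward.isDefEq.respectTransparency.types false
set_option linter.style.haveILetI false

universe u

open CategoryTheory CategoryTheory.Limits AlgebraicGeometry Opposite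

namespace Groth.EtaleDeep.AdicP

attribute [local instance] ProEtSite.pCont ProEtSite.epsCont

/-- Composition with a weakly etale morphism is continuous on small pro-etale sites. -/
theorem jpCont {U X : Scheme.{u}} (j : U ⟶ X) [hj : WeaklyEtale j] : ProEtS.JPCont j := by
  have hp : CoverPreserving (Scheme.ProEt.topology U) (Scheme.ProEt.topology X) (ProEtS.compP j) := by
    refine ProEtSite.coverPreserving_of_comp_forget _ _ ⟨fun {V S} hS => ?_⟩
    rw [ProEtSite.mem_topology_iff, GrothendieckTopology.mem_over_iff] at hS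
    rw [GrothendieckTopology.mem_over_iff]
    refine Scheme.proetaleTopology.superset_covering ?_ hS
    intro T q hq
    obtain ⟨Z, g, a, hg, hfac⟩ := (Sieve.overEquiv_iff _ _).1 hq
    apply (Sieve.overEquiv_iff _ _).2
    refine ⟨Z, g, Over.homMk a.left ?_, hg, Over.OverMorphism.ext (congrArg (fun r => r.left) hfac)⟩
    have hl : q = a.left ≫ g.left := congrArg (fun r => r.left) hfac
    change a.left ≫ Z.hom ≫ j = q ≫ V.hom ≫ j
    exact ((congrArg (a.left ≫ ·) ((congrArg (· ≫ j) (MorphismProperty.Over.w g)).symm.trans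
      (Category.assoc _ _ _))).trans (Category.assoc _ _ _).symm).trans
      (congrArg (· ≫ V.hom ≫ j) hl.symm)
  refine Functor.isContinuous_of_coverPreserving ⟨?_⟩ hp
  intro ℱ Z T x hx Y₁ Y₂ W f₁ f₂ g₁ g₂ hg₁ hg₂ e
  have e₁ : f₁.left ≫ Y₁.hom ≫ j = W.hom := MorphismProperty.Over.w f₁
  have hW : WeaklyEtale ((f₁.left ≫ Y₁.hom) ≫ j) := by rw [Category.assoc, e₁]; exact W.prop
  have : WeaklyEtale (f₁.left ≫ Y₁.hom) := WeaklyEtale.of_comp (f₁.left ≫ Y₁.hom) j
  let W' : U.ProEt := Scheme.ProEt.mk (f₁.left ≫ Y₁.hom)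
  have e₂ : f₁.left ≫ g₁.left = f₂.left ≫ g₂.left := congrArg (fun m => m.left) e
  let h₁ : W' ⟶ Y₁ := MorphismProperty.Over.homMk f₁.left rfl
  let h₂ : W' ⟶ Y₂ := MorphismProperty.Over.homMk f₂.left (by
    change f₂.left ≫ Y₂.hom = f₁.left ≫ Y₁.hom
    exact (congrArg (f₂.left ≫ ·) (MorphismProperty.Over.w g₂)).symm.trans ((Category.assoc _ _ _).symm.trans
      ((congrArg (· ≫ Z.hom) e₂.symm).trans ((Category.assoc _ _ _).trans
        (congrArg (f₁.left ≫ ·) (MorphismProperty.Over.w g₁))))))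
  let ι : (ProEtS.compP j).obj W' ≅ W :=
    MorphismProperty.Over.isoMk (Iso.refl _) (by
      change 𝟙 _ ≫ W.hom = (f₁.left ≫ Y₁.hom) ≫ j
      rw [Category.id_comp, Category.assoc, e₁])
  have k₁ : ι.hom ≫ f₁ = (ProEtS.compP j).map h₁ :=
    MorphismProperty.Over.Hom.ext (Category.id_comp _)
  have k₂ : ι.hom ≫ f₂ = (ProEtS.compP j).map h₂ :=
    MorphismProperty.Over.Hom.ext (Category.id_comp _)
  refine (ℱ.obj.mapIso ι.op).toEquiv.injective ?_
  change ℱ.obj.map ι.hom.op (ℱ.obj.map f₁.op (x g₁ hg₁)) = ℱ.obj.map ι.hom.op (ℱ.obj.map f₂.op (x g₂ hg₂))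
  rw [← Functor.map_comp_apply, ← Functor.map_comp_apply, ← op_comp, ← op_comp, k₁, k₂]
  exact hx h₁ h₂ hg₁ hg₂ (MorphismProperty.Over.Hom.ext e₂)

attribute [local instance] jpCont

variable (Λ : Type (u + 1)) [CommRing Λ] {X : Scheme.{u}}

/-- Being pulled back from the etale site. -/
abbrev IsEtPulled {Y : Scheme.{u}} (F : EtModW.ModP Λ Y) : Prop :=
  (EtModW.epsPullMod Λ Y).essImage F

theorem classical_of_iso {F G : EtModW.ModP Λ X} (e : F ≅ G) (h : IsEtPulled Λ F) : IsEtPulled Λ G :=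
  ⟨h.witness, ⟨h.getIso ≪≫ e⟩⟩

theorem classical_of_isZero {F : EtModW.ModP Λ X} (hF : IsZero F) : IsEtPulled Λ F := by
  obtain ⟨Z, hz⟩ := HasZeroObject.zero (C := EtModW.Mod Λ X)
  have := Cons.additive_epsPull (Λ := Λ) (X := X)
  exact ⟨Z, ⟨((EtModW.epsPullMod Λ X).map_isZero hz).iso hF⟩⟩

/-- A morphism between sheaves pulled back from the etale site is detected there. -/
theorem isIso_of_classical {F G : EtModW.ModP Λ X} (hF : IsEtPulled Λ F) (hG : IsEtPulled Λ G)
    (φ : F ⟶ G)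
    (h : IsIso (((ProEtS.eps X).sheafPushforwardContinuous (ModuleCat.{u + 1} Λ) X.smallEtaleTopology
      (Scheme.ProEt.topology X)).map φ)) : IsIso φ := by
  let adj := Eps.epsAdjMod Λ (X := X)
  have : ∀ G, IsIso (adj.unit.app G) := Eps.isIso_unitMod Λ
  have : IsIso adj.unit := NatIso.isIso_of_isIso_app _
  have := adj.fullyFaithfulLOfIsIsoUnit.full
  have := adj.fullyFaithfulLOfIsIsoUnit.faithful
  have hc : ∀ {H : EtModW.ModP Λ X}, IsEtPulled Λ H → IsIso (adj.counit.app H) := fun hH => by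
    rw [← NatTrans.isIso_app_iff_of_iso adj.counit hH.getIso,
      IsIso.eq_inv_of_hom_inv_id (adj.left_triangle_components hH.witness)]
    infer_instance
  have := hc hF
  have := hc hG
  have h1 : IsIso (adj.counit.app F ≫ φ) := by
    have := adj.counit.naturality φ
    simp only [Functor.comp_map, Functor.id_map] at this
    rw [← this]
    infer_instance
  exact IsIso.of_isIso_comp_left (adj.counit.app F) φ

/-- Inverse images of composites. -/
theorem nonempty_pullPM_comp {T Y : Scheme.{u}} (h : T ⟶ Y) (g : Y ⟶ X) :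
    Nonempty (pullPM Λ g ⋙ pullPM Λ h ≅ pullPM Λ (h ≫ g)) := by
  let i : ProEtS.bcP (h ≫ g) ≅ ProEtS.bcP g ⋙ ProEtS.bcP h :=
    MorphismProperty.Over.pullbackComp (P := @WeaklyEtale) (Q := ⊤) h g
  let e : pushPM Λ h ⋙ pushPM Λ g ≅ pushPM Λ (h ≫ g) :=
    NatIso.ofComponents
      (fun N => (fullyFaithfulSheafToPresheaf _ _).preimageIso (Functor.isoWhiskerRight (NatIso.op i) N.obj))
      (fun {N N'} φ => by
        apply Sheaf.hom_ext
        refine NatTrans.ext (funext fun V => ?_)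
        exact (φ.hom.naturality (i.hom.app V.unop).op).symm)
  exact ⟨(((adjMod Λ (ProEtS.bcP g)).comp (adjMod Λ (ProEtS.bcP h))).ofNatIsoRight e).leftAdjointUniq
    (adjMod Λ (ProEtS.bcP (h ≫ g)))⟩

theorem classical_pull {T : Scheme.{u}} (g : T ⟶ X) {F : EtModW.ModP Λ X} (hF : IsEtPulled Λ F) :
    IsEtPulled Λ ((pullPM Λ g).obj F) := by
  obtain ⟨e⟩ := nonempty_epsPullMod_comp_pull Λ g
  exact ⟨_, ⟨(e.app hF.witness).symm ≪≫ (pullPM Λ g).mapIso hF.getIso⟩⟩

theorem classical_push {Z : Scheme.{u}} (i : Z ⟶ X) [QuasiCompact i] [QuasiSeparated i]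
    {F : EtModW.ModP Λ Z} (hF : IsEtPulled Λ F) : IsEtPulled Λ ((pushPM Λ i).obj F) := by
  obtain ⟨e⟩ := nonempty_push_epsPullMod (f := i) hF.witness
  exact ⟨_, ⟨e ≪≫ (pushPM Λ i).mapIso hF.getIso⟩⟩

theorem classical_ext {U : Scheme.{u}} (j : U ⟶ X) [IsOpenImmersion j] [WeaklyEtale j]
    {F : EtModW.ModP Λ U} (hF : IsEtPulled Λ F) : IsEtPulled Λ ((extPM Λ j).obj F) := by
  have hje : Etale j := inferInstance
  have : (MorphismProperty.Over.map (P := EtCoh.etaleMP.{u}) ⊤ (f := j) hje).IsContinuous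
      U.smallEtaleTopology X.smallEtaleTopology := EtaleBase.InjCoh.jCont j
  have : ((EtShriek.compEtale j).sheafPushforwardContinuous (ModuleCat.{u + 1} Λ) U.smallEtaleTopology
      X.smallEtaleTopology).IsRightAdjoint := inferInstance
  have : ((MorphismProperty.Over.map (P := EtCoh.etaleMP.{u}) ⊤ (f := j) hje).sheafPushforwardContinuous
      (ModuleCat.{u + 1} Λ) U.smallEtaleTopology X.smallEtaleTopology).IsRightAdjoint := this
  obtain ⟨e⟩ := nonempty_ext_epsPullMod Λ j hF.witness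
  exact ⟨_, ⟨e ≪≫ (extPM Λ j).mapIso hF.getIso⟩⟩

/-- The essential image is closed under extensions. -/
theorem classical_X₂ {S : ShortComplex (EtModW.ModP Λ X)} (hS : S.ShortExact)
    (h₁ : IsEtPulled Λ S.X₁) (h₃ : IsEtPulled Λ S.X₃) : IsEtPulled Λ S.X₂ := by
  let P : ObjectProperty (ProEtS.AbP X) := fun F => ∃ G : EtCoh.Ab X,
    (⊤ : ObjectProperty (EtCoh.Ab X)) G ∧ Nonempty ((ProEtS.epsPull X).obj G ≅ F)
  have hW : WSerre.IsWeakSerre (⊤ : ObjectProperty (EtCoh.Ab X)) := inferInstance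
  have hP : WSerre.IsWeakSerre P := Eps.isWeakSerre_image_epsPull ⊤
  have h1 : ∀ F, IsEtPulled Λ F ↔ P ((Eps.toAbP Λ X).obj F) := fun F => by
    rw [IsEtPulled, Eps.essImage_epsPullMod_iff]
    exact ⟨fun h => ⟨h.witness, trivial, ⟨h.getIso⟩⟩, fun ⟨G, _, e⟩ => ⟨G, e⟩⟩
  exact (h1 _).2 (P.prop_X₂_of_shortExact (hS.map_of_exact (Eps.toAbP Λ X)) ((h1 _).1 h₁) ((h1 _).1 h₃))

/-- All sheaves on the empty scheme are zero. -/
theorem isZero_of_isEmpty [IsEmpty X] (F : EtModW.ModP Λ X) : IsZero F := by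
  rw [IsZero.iff_id_eq_zero]
  refine Sheaf.hom_ext (NatTrans.ext (funext fun V => ?_))
  ext z
  have : IsEmpty V.unop.left := ⟨fun v => (‹IsEmpty X›).false (V.unop.hom.base v)⟩
  have hP := (isSheaf_iff_isSheaf_of_type _ _).1
    ((sheafCompose (Scheme.ProEt.topology X) (CategoryTheory.forget (ModuleCat.{u + 1} Λ))).obj F).property
  exact (hP _ (Scheme.ProEt.bot_mem_topology V.unop)).isSeparatedFor.ext fun _ _ hf => False.elim hf

/-- Gluing from a retrocompact open and its closed complement. -/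
theorem classical_glue {U Z : Scheme.{u}} (j : U ⟶ X) [IsOpenImmersion j] [QuasiCompact j]
    [WeaklyEtale j] (i : Z ⟶ X) [IsClosedImmersion i]
    (hc : Set.range j.base = (Set.range i.base)ᶜ) {F : EtModW.ModP Λ X}
    (hU : IsEtPulled Λ ((pullPM Λ j).obj F)) (hZ : IsEtPulled Λ ((pullPM Λ i).obj F)) :
    IsEtPulled Λ F := by
  obtain ⟨h, hS⟩ := shortExact_recollement Λ j i hc F
  obtain ⟨ε⟩ := nonempty_restrPM_iso_pullPM Λ j
  exact classical_X₂ Λ hS (classical_ext Λ j (classical_of_iso Λ (ε.app F).symm hU))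
    (classical_push Λ i hZ)

/-- The essential image is local for the Zariski topology. -/
theorem classical_of_openCover {ι : Type u} (U : ι → X.Opens) (hU : ∀ x : X, ∃ k, x ∈ U k)
    {F : EtModW.ModP Λ X} (h : ∀ k, IsEtPulled Λ ((pullPM Λ (U k).ι).obj F)) : IsEtPulled Λ F := by
  let adj := Eps.epsAdjMod Λ (X := X)
  let R := fun (Y : Scheme.{u}) => (ProEtS.eps Y).sheafPushforwardContinuous (ModuleCat.{u + 1} Λ)
    Y.smallEtaleTopology (Scheme.ProEt.topology Y)
  let c := adj.counit.app F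
  have : ∀ G, IsIso (adj.unit.app G) := Eps.isIso_unitMod Λ
  have hRc : IsIso ((R X).map c) :=
    have := adj.right_triangle_components F
    IsIso.of_isIso_fac_left this
  have hres : ∀ k, IsIso ((restrPM Λ (U k).ι).map c) := fun k => by
    let j := (U k).ι
    have hje : Etale j := inferInstance
    let cE := MorphismProperty.Over.map (P := EtCoh.etaleMP.{u}) ⊤ (f := j) hje
    have : cE.IsContinuous (U k).toScheme.smallEtaleTopology X.smallEtaleTopology :=
      EtaleBase.InjCoh.jCont j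
    let i : cE ⋙ ProEtS.eps X ≅ ProEtS.eps (U k).toScheme ⋙ ProEtS.compP j :=
      NatIso.ofComponents (fun V => MorphismProperty.Over.isoMk (Iso.refl _) (Category.id_comp _))
        (fun g => MorphismProperty.Over.Hom.ext
          ((Category.comp_id _).trans (Category.id_comp _).symm))
    let e : R X ⋙ cE.sheafPushforwardContinuous (ModuleCat.{u + 1} Λ)
          (U k).toScheme.smallEtaleTopology X.smallEtaleTopology ≅
        restrPM Λ j ⋙ R (U k).toScheme :=
      NatIso.ofComponents (fun G => (fullyFaithfulSheafToPresheaf _ _).preimageIso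
          (Functor.isoWhiskerRight (NatIso.op i).symm G.obj))
        (fun {G G'} φ => by
          ext V x
          exact (NatTrans.naturality_apply φ.hom (i.inv.app V.unop).op x).symm)
    obtain ⟨ε⟩ := nonempty_restrPM_iso_pullPM Λ j
    refine isIso_of_classical Λ
      (classical_of_iso Λ (ε.app _).symm (classical_pull Λ j ((EtModW.epsPullMod Λ X).obj_mem_essImage _)))
      (classical_of_iso Λ (ε.app _).symm (h k)) _ ?_
    exact (NatIso.isIso_map_iff e c).1 (@Functor.map_isIso _ _ _ _ _ _ (cE.sheafPushforwardContinuous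
      (ModuleCat.{u + 1} Λ) _ _) ((R X).map c) hRc)
  -- sections over objects mapping into a member of the covering
  have hb : ∀ (k : ι) (Z : X.ProEt), Set.range Z.hom ⊆ (U k : Set X) →
      Function.Bijective (c.hom.app (op Z)) := fun k Z hr => by
    let l := IsOpenImmersion.lift (U k).ι Z.hom (by rw [Scheme.Opens.range_ι]; exact hr)
    have hl : l ≫ (U k).ι = Z.hom := IsOpenImmersion.lift_fac _ _ _
    have : WeaklyEtale (l ≫ (U k).ι) := by rw [hl]; exact Z.prop
    have : WeaklyEtale l := WeaklyEtale.of_comp l (U k).ι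
    let Z' : (U k).toScheme.ProEt := Scheme.ProEt.mk l
    let iZ : (ProEtS.compP (U k).ι).obj Z' ≅ Z :=
      MorphismProperty.Over.isoMk (Iso.refl _) ((Category.id_comp _).trans hl.symm)
    have := hres k
    have : IsIso (((restrPM Λ (U k).ι).map c).hom.app (op Z')) :=
      inferInstanceAs (IsIso (((sheafToPresheaf _ _).map ((restrPM Λ (U k).ι).map c)).app (op Z')))
    have : IsIso (c.hom.app (op Z)) :=
      (NatTrans.isIso_app_iff_of_iso c.hom iZ.op).2 this
    exact (ConcreteCategory.isIso_iff_bijective _).1 this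
  -- the pieces
  let W : ∀ (T : X.ProEt) (k : ι), X.ProEt := fun T k => Scheme.ProEt.mk ((T.hom ⁻¹ᵁ U k).ι ≫ T.hom)
  have hW : ∀ (T : X.ProEt) (k : ι), Function.Bijective (c.hom.app (op (W T k))) := fun T k =>
    hb k _ (by rintro _ ⟨z, rfl⟩; exact z.2)
  have hcov : ∀ T : X.ProEt, Sieve.generate (Presieve.ofArrows (W T) fun k =>
      ProEt.openHom (U := T) (T.hom ⁻¹ᵁ U k)) ∈ Scheme.ProEt.topology X T := fun T => by
    have : ∀ k, IsOpenImmersion (ProEt.openHom (U := T) (T.hom ⁻¹ᵁ U k)).left :=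
      fun k => inferInstanceAs (IsOpenImmersion (T.hom ⁻¹ᵁ U k).ι)
    exact ProEt.openImmersions_mem_topology (W T) _ fun x => by
      obtain ⟨k, hk⟩ := hU (T.hom x)
      exact ⟨k, ⟨x, hk⟩, rfl⟩
  have : Sheaf.IsLocallyInjective c := ⟨fun {T} x y hxy => by
    refine (Scheme.ProEt.topology X).superset_covering ?_ (hcov T.unop)
    rintro Z _ ⟨Z', a, b, ⟨k⟩, rfl⟩
    rw [Presheaf.equalizerSieve_apply, op_comp, Functor.map_comp_apply, Functor.map_comp_apply]
    refine congrArg _ ((hW T.unop k).1 ?_)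
    rw [NatTrans.naturality_apply c.hom, NatTrans.naturality_apply c.hom]
    exact congrArg _ hxy⟩
  have : Sheaf.IsLocallySurjective c := ⟨fun {T} s => by
    refine (Scheme.ProEt.topology X).superset_covering ?_ (hcov T)
    rintro Z _ ⟨Z', a, b, ⟨k⟩, rfl⟩
    obtain ⟨t, ht⟩ := (hW T k).2 ((F.obj.map (ProEt.openHom (U := T) (T.hom ⁻¹ᵁ U k)).op) s)
    refine ⟨((R X ⋙ EtModW.epsPullMod Λ X).obj F).obj.map a.op t, ?_⟩
    rw [op_comp, Functor.map_comp_apply]
    exact (NatTrans.naturality_apply c.hom a.op t).trans (congrArg _ ht)⟩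
  have : IsIso c := (Sheaf.isLocallyBijective_iff_isIso c).1 ⟨inferInstance, inferInstance⟩
  exact ⟨_, ⟨asIso c⟩⟩

/-- Being pulled back from the etale site after inverse image. -/
def ClassicalOn (F : EtModW.ModP Λ X) : ∀ ⦃T : Scheme.{u}⦄, (T ⟶ X) → Prop :=
  fun _ g => IsEtPulled Λ ((pullPM Λ g).obj F)

theorem classicalOn_comp (F : EtModW.ModP Λ X) {T Y : Scheme.{u}} (h : T ⟶ Y) (g : Y ⟶ X) :
    IsEtPulled Λ ((pullPM Λ h).obj ((pullPM Λ g).obj F)) ↔ ClassicalOn Λ F (h ≫ g) := by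
  obtain ⟨e⟩ := nonempty_pullPM_comp Λ h g
  exact ⟨classical_of_iso Λ (e.app F), classical_of_iso Λ (e.app F).symm⟩

theorem stable_classicalOn (F : EtModW.ModP Λ X) : Cons.Stable (ClassicalOn Λ F) :=
  fun _ _ h g hg => (classicalOn_comp Λ F h g).1 (classical_pull Λ h hg)

/-- Dévissage along finitely many quasi-compact opens. -/
theorem classicalOn_of_pattern (F : EtModW.ModP Λ X) : ∀ (k : ℕ) (Y : Scheme.{u}) (g : Y ⟶ X)
    [CompactSpace Y] [QuasiSeparatedSpace Y] (𝒰 : Fin k → Y.Opens),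
    (∀ i, IsCompact (𝒰 i : Set Y)) →
    (∀ y : Y, ∃ (T : Scheme.{u}) (t : T ⟶ X), IsImmersion t ∧ ClassicalOn Λ F t ∧
      ∀ y' : Y, (∀ i, y ∈ 𝒰 i ↔ y' ∈ 𝒰 i) → g y' ∈ Set.range t) →
    ClassicalOn Λ F g
  | 0, Y, g, _, _, 𝒰, _, hY => by
    by_cases hne : Nonempty Y
    · obtain ⟨y⟩ := hne
      obtain ⟨T, t, ht, hc, hr⟩ := hY y
      let q := pullback.snd t g
      have : IsImmersion q := MorphismProperty.pullback_snd _ _ ht
      have hsur : Set.range q = Set.univ := by
        rw [Scheme.Pullback.range_snd]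
        exact Set.eq_univ_of_forall fun y' => hr y' fun i => i.elim0
      have : IsClosedImmersion q :=
        IsClosedImmersion.of_isPreimmersion q (by rw [hsur]; exact isClosed_univ)
      have hq : ClassicalOn Λ F (q ≫ g) := by
        rw [← pullback.condition]
        exact stable_classicalOn Λ F _ _ hc
      have : IsEmpty ((⊥ : Y.Opens) : Scheme.{u}) := ⟨fun z => z.2.elim⟩
      have : QuasiCompact (⊥ : Y.Opens).ι :=
        have : CompactSpace ((⊥ : Y.Opens) : Scheme.{u}) := Finite.compactSpace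
        quasiCompact_of_compactSpace _
      refine classical_glue Λ (⊥ : Y.Opens).ι q ?_
        (classical_of_isZero Λ (isZero_of_isEmpty Λ _)) ((classicalOn_comp Λ F q g).2 hq)
      rw [hsur, Set.compl_univ, Set.range_eq_empty]
    · have : IsEmpty Y := not_nonempty_iff.1 hne
      exact classical_of_isZero Λ (isZero_of_isEmpty Λ _)
  | k + 1, Y, g, _, _, 𝒰, h𝒰, hY => by
    let O := 𝒰 0
    obtain ⟨⟨Z, i, hi, -, hr⟩, -⟩ := PropsBasic2.existsUnique_reduced Y ((O : Set Y)ᶜ)
      O.2.isClosed_compl.isLocallyClosed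
    have : IsImmersion i := hi
    have : IsClosedImmersion i :=
      IsClosedImmersion.of_isPreimmersion i (by rw [hr]; exact O.2.isClosed_compl)
    have : CompactSpace (O : Scheme.{u}) := isCompact_iff_compactSpace.1 (h𝒰 0)
    have : QuasiCompact O.ι := quasiCompact_of_compactSpace _
    have : QuasiSeparatedSpace (O : Scheme.{u}) := quasiSeparatedSpace_of_quasiSeparated O.ι
    have : CompactSpace Z := QuasiCompact.compactSpace_of_compactSpace i
    have : QuasiSeparatedSpace Z := quasiSeparatedSpace_of_quasiSeparated i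
    refine classical_glue Λ O.ι i (by rw [hr, compl_compl, Scheme.Opens.range_ι])
      ((classicalOn_comp Λ F O.ι g).2 ?_) ((classicalOn_comp Λ F i g).2 ?_)
    · refine classicalOn_of_pattern F k _ (O.ι ≫ g) (fun l => O.ι ⁻¹ᵁ 𝒰 l.succ)
        (fun l => QuasiCompact.isCompact_preimage _ (𝒰 l.succ).2 (h𝒰 _)) fun y => ?_
      obtain ⟨T, t, ht, hc, hp⟩ := hY (O.ι y)
      exact ⟨T, t, ht, hc, fun y' hy' => hp (O.ι y')
        (Fin.cases (iff_of_true y.2 y'.2) fun l => hy' l)⟩
    · refine classicalOn_of_pattern F k Z (i ≫ g) (fun l => i ⁻¹ᵁ 𝒰 l.succ)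
        (fun l => QuasiCompact.isCompact_preimage _ (𝒰 l.succ).2 (h𝒰 _)) fun y => ?_
      obtain ⟨T, t, ht, hc, hp⟩ := hY (i y)
      have hn : ∀ z : Z, i z ∉ O := fun z => hr.le ⟨z, rfl⟩
      exact ⟨T, t, ht, hc, fun y' hy' => hp (i y')
        (Fin.cases (iff_of_false (hn y) (hn y')) fun l => hy' l)⟩

/-- A sheaf which is pulled back from the etale site on constructible strata is so globally. -/
theorem classical_of_adapted {F : EtModW.ModP Λ X}
    (h : ∀ U : X.Opens, IsAffineOpen U → Cons.Adapted (ClassicalOn Λ F) (U : Set X)) :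
    IsEtPulled Λ F := by
  refine classical_of_openCover Λ (fun U : X.affineOpens => U.1) (fun x => ?_) fun U => ?_
  · obtain ⟨U, hU, hxU, -⟩ := exists_isAffineOpen_mem_and_subset (U := ⊤) (Set.mem_univ x)
    exact ⟨⟨U, hU⟩, hxU⟩
  · obtain ⟨m, T, t, ht, hcons, -, hu, hQ⟩ := h U.1 U.2
    have : IsAffine U.1.toScheme := U.2
    choose 𝒮 h𝒮 h𝒮' using fun i => Cons.exists_finset_pattern (hcons i)
    classical
    let 𝒜 := Finset.univ.biUnion 𝒮
    have h𝒜 : ∀ A ∈ 𝒜, IsOpen A ∧ IsRetrocompact A := fun A hA => by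
      obtain ⟨i, -, hi⟩ := Finset.mem_biUnion.1 hA
      exact h𝒮 i A hi
    let e := 𝒜.equivFin.symm
    have : CompactSpace (U.1 : Set X) := isCompact_iff_compactSpace.1 U.2.isCompact
    refine classicalOn_of_pattern Λ F 𝒜.card U.1.toScheme U.1.ι
      (fun l => ⟨(e l).1, (h𝒜 _ (e l).2).1⟩) (fun l => (h𝒜 _ (e l).2).2.isCompact) fun y => ?_
    obtain ⟨i, hi⟩ := Set.mem_iUnion.1 (hu.ge y.2)
    refine ⟨T i, t i, ht i, hQ i, fun y' hy' => (h𝒮' i y y' fun A hA => ?_).1 hi⟩
    have hA' : A ∈ 𝒜 := Finset.mem_biUnion.2 ⟨i, Finset.mem_univ i, hA⟩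
    obtain ⟨l, hl⟩ := e.surjective ⟨A, hA'⟩
    have := hy' l
    change y ∈ (e l).1 ↔ y' ∈ (e l).1 at this
    rwa [hl] at this

end Groth.EtaleDeep.AdicP
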