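import Groth.Agent.EtaleDeep.AdicP.SectionsQuot
import Groth.Agent.EtaleDeep.Eps.Push
import Groth.Agent.EtaleDeep.ProEt.Exact

/-!
# Direct images of adic pro-etale sheaves along closed immersions
-/

set_option autoImplicit false
set_option backward.isDefEq.respectTransparency.types false
set_option linter.style.haveILetI false

universe u

open CategoryTheory CategoryTheory.Limits AlgebraicGeometry Opposite

namespace Groth.EtaleDeep.AdicP

variable (Λ : Type (u + 1)) [CommRing Λ] {Z X : Scheme.{u}} (f : Z ⟶ X) [ProEtS.PCont f]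

/-- Direct image of pro-etale sheaves of modules. -/
noncomputable abbrev pushPM : EtModW.ModP Λ Z ⥤ EtModW.ModP Λ X :=
  (ProEtS.bcP f).sheafPushforwardContinuous (ModuleCat.{u + 1} Λ) (Scheme.ProEt.topology X)
    (Scheme.ProEt.topology Z)

instance preservesLimitsOfShape_pushPM {J : Type} [SmallCategory J] :
    PreservesLimitsOfShape J (pushPM Λ f) := by
  have : PreservesLimitsOfShape J
      (sheafToPresheaf (Scheme.ProEt.topology Z) (ModuleCat.{u + 1} Λ) ⋙
        (Functor.whiskeringLeft _ _ (ModuleCat.{u + 1} Λ)).obj (ProEtS.bcP f).op) := inferInstance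
  have : PreservesLimitsOfShape J (pushPM Λ f ⋙
      sheafToPresheaf (Scheme.ProEt.topology X) (ModuleCat.{u + 1} Λ)) := this
  exact preservesLimitsOfShape_of_reflects_of_preserves (pushPM Λ f)
    (sheafToPresheaf (Scheme.ProEt.topology X) (ModuleCat.{u + 1} Λ))

variable {Λ}

/-- Direct image preserves quotient maps when base change preserves weakly contractible objects. -/
theorem isQuot_pushPM (hf : ∀ W : X.ProEt, IsAffine W.left → ProEtS.IsWC W →
      IsAffine ((ProEtS.bcP f).obj W).left ∧ ProEtS.IsWC ((ProEtS.bcP f).obj W))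
    {I : Ideal Λ} {F Q : EtModW.ModP Λ Z} (p : F ⟶ Q) (hp : ARSys.IsQuot I p) :
    ARSys.IsQuot I ((pushPM Λ f).map p) := by
  refine isQuot_of_WC _ (fun a ha => ?_) (fun V hV hW => ?_) (fun V hV hW z hz => ?_)
  · exact (congrArg (pushPM Λ f).map (hp.1 a ha) :)
  · have := AR.IsQuot.epi hp
    exact DC.surjective_of_epi Λ p (hf V hV hW).2
  · have := (hf V hV hW).1
    exact ker_le_smul_top p hp (hf V hV hW).2 hz

variable [QuasiCompact f] [QuasiSeparated f] [ProEtS.EpsCont Z] [ProEtS.EpsCont X]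

/-- Direct image commutes with pulling back from the etale site. -/
theorem nonempty_push_epsPullMod (E : EtModW.Mod Λ Z) :
    Nonempty ((EtModW.epsPullMod Λ X).obj ((EtModW.push Λ f).obj E) ≅
      (pushPM Λ f).obj ((EtModW.epsPullMod Λ Z).obj E)) := by
  let N := (EtModW.epsPullMod Λ Z).obj E
  let M := (pushPM Λ f).obj N
  have := Eps.isIso_cmpMod Λ E
  have := Eps.isIso_pushEpsMate_app f ((sheafCompose Z.smallEtaleTopology (forget₂ (ModuleCat.{u + 1} Λ) AddCommGrpCat.{u + 1})).obj E)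
  have h0 : (ProEtS.epsPull X).essImage ((Eps.toAbP Λ X).obj M) :=
    ⟨_, ⟨asIso ((Eps.pushEpsMate f).app _) ≪≫
      (ProEtS.pushP f).mapIso (asIso ((Eps.cmpMod Λ).app E))⟩⟩
  have h := (Eps.essImage_epsPullMod_iff Λ M).2 h0
  have : ∀ G, IsIso ((Eps.epsAdjMod Λ (X := X)).unit.app G) := Eps.isIso_unitMod Λ
  have : IsIso (Eps.epsAdjMod Λ (X := X)).unit := NatIso.isIso_of_isIso_app _
  have := (Eps.epsAdjMod Λ (X := X)).fullyFaithfulLOfIsIsoUnit.full
  have := (Eps.epsAdjMod Λ (X := X)).fullyFaithfulLOfIsIsoUnit.faithful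
  have : IsIso ((Eps.epsAdjMod Λ (X := X)).counit.app M) := by
    rw [← NatTrans.isIso_app_iff_of_iso (Eps.epsAdjMod Λ (X := X)).counit h.getIso,
      IsIso.eq_inv_of_hom_inv_id ((Eps.epsAdjMod Λ (X := X)).left_triangle_components h.witness)]
    infer_instance
  have := Eps.isIso_unitMod Λ E
  let i : ProEtS.eps X ⋙ ProEtS.bcP f ≅ EtCoh.bc f ⋙ ProEtS.eps Z :=
    NatIso.ofComponents (fun V => MorphismProperty.Over.isoMk (Iso.refl _) (Category.id_comp _))
      (fun g => MorphismProperty.Over.Hom.ext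
        ((Category.comp_id _).trans (Category.id_comp _).symm))
  let R := fun (Y : Scheme.{u}) [ProEtS.EpsCont Y] => (ProEtS.eps Y).sheafPushforwardContinuous
    (ModuleCat.{u + 1} Λ) Y.smallEtaleTopology (Scheme.ProEt.topology Y)
  let e₁ : (EtModW.push Λ f).obj ((R Z).obj N) ≅ (R X).obj M :=
    (fullyFaithfulSheafToPresheaf _ _).preimageIso (Functor.isoWhiskerRight (NatIso.op i) N.obj)
  exact ⟨(EtModW.epsPullMod Λ X).mapIso
    ((EtModW.push Λ f).mapIso (asIso ((Eps.epsAdjMod Λ (X := Z)).unit.app E)) ≪≫ e₁) ≪≫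
    asIso ((Eps.epsAdjMod Λ (X := X)).counit.app M)⟩

omit [QuasiCompact f] [QuasiSeparated f] [ProEtS.EpsCont Z] [ProEtS.EpsCont X] in
/-- A functor preserving limits transports presentations as limits. -/
theorem isIso_lift_map {A : Type*} [Category A] {B : Type*} [Category B] (P : A ⥤ B)
    {J : Type} [SmallCategory J] [PreservesLimitsOfShape J P] [HasLimitsOfShape J A]
    [HasLimitsOfShape J B] {F : A} (Q : J ⥤ A) (p : (Functor.const J).obj F ⟶ Q)
    (h : IsIso (limit.lift Q (Cone.mk F p))) :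
    IsIso (limit.lift (Q ⋙ P) (P.mapCone (Cone.mk F p))) := by
  have hc : IsLimit (Cone.mk F p) := @IsLimit.ofPointIso _ _ _ _ _ _ _ (limit.isLimit Q) h
  exact inferInstanceAs (IsIso
    ((isLimitOfPreserves P hc).conePointUniqueUpToIso (limit.isLimit (Q ⋙ P))).hom)

/-- Direct image of an adic pro-etale sheaf along a closed immersion. -/
theorem isAdicP_push {Z X : Scheme.{u}} (i : Z ⟶ X) [IsClosedImmersion i]
    (hret : IsRetrocompact (Set.range (fun z => i.base z))ᶜ)
    [ProEtS.EpsCont Z] [ProEtS.EpsCont X] [ProEtS.PCont i] (I : Ideal Λ)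
    (hpush : ∀ E : EtModW.Mod Λ Z, EtModW.IsConstructible Λ E →
      EtModW.IsConstructible Λ ((EtModW.push Λ i).obj E))
    (F : EtModW.ModP Λ Z)
    (hF : (∃ (Q : ℕᵒᵖ ⥤ EtModW.ModP Λ Z) (p : (Functor.const ℕᵒᵖ).obj F ⟶ Q),
        (∀ n : ℕ, ARSys.IsQuot (I ^ (n + 1)) (p.app (op n))) ∧
        (∀ n : ℕ, ∃ E : EtModW.Mod Λ Z, EtModW.IsConstructible Λ E ∧
          Nonempty ((EtModW.epsPullMod Λ Z).obj E ≅ Q.obj (op n))) ∧
        IsIso (limit.lift Q (Cone.mk F p)))) :
    (∃ (Q : ℕᵒᵖ ⥤ EtModW.ModP Λ X) (p : (Functor.const ℕᵒᵖ).obj ((pushPM Λ i).obj F) ⟶ Q),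
      (∀ n : ℕ, ARSys.IsQuot (I ^ (n + 1)) (p.app (op n))) ∧
      (∀ n : ℕ, ∃ E : EtModW.Mod Λ X, EtModW.IsConstructible Λ E ∧
        Nonempty ((EtModW.epsPullMod Λ X).obj E ≅ Q.obj (op n))) ∧
      IsIso (limit.lift Q (Cone.mk ((pushPM Λ i).obj F) p))) := by
  obtain ⟨Q, p, hp, hE, hi⟩ := hF
  refine ⟨Q ⋙ pushPM Λ i, ((pushPM Λ i).mapCone (Cone.mk F p)).π, fun n => ?_, fun n => ?_,
    isIso_lift_map (pushPM Λ i) Q p hi⟩
  · refine isQuot_pushPM i (fun W hW hWC => ⟨?_, ?_⟩) (p.app (op n)) (hp n)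
    · let q : ((ProEtS.bcP i).obj W).left ⟶ W.left := pullback.fst W.hom i
      have : IsClosedImmersion q := MorphismProperty.pullback_fst W.hom i inferInstance
      exact isAffine_of_isAffineHom q
    · exact ProEt.isWC_bcP_of_closedImmersion i hret W hWC
  · obtain ⟨E, hEc, ⟨e⟩⟩ := hE n
    obtain ⟨e'⟩ := nonempty_push_epsPullMod i E
    exact ⟨_, hpush E hEc, ⟨e' ≪≫ (pushPM Λ i).mapIso e⟩⟩

end Groth.EtaleDeep.AdicP
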