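import Groth.Agent.EtaleDeep.AdicP.LimEpi
import Groth.Agent.EtaleDeep.AdicP.Push
import Groth.Agent.EtaleDeep.ProEt.ShortExact

/-!
# Extension by zero of adic pro-etale sheaves along quasi-compact open immersions
-/

set_option autoImplicit false
set_option backward.isDefEq.respectTransparency.types false
set_option linter.style.haveILetI false

universe u

open CategoryTheory CategoryTheory.Limits AlgebraicGeometry Opposite

namespace Groth.EtaleDeep.AdicP

variable (Λ : Type (u + 1)) [CommRing Λ] {U X : Scheme.{u}} (j : U ⟶ X) [WeaklyEtale j]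
  [ProEtS.JPCont j]

/-- Extension by zero of pro-etale sheaves of modules. -/
noncomputable abbrev extPM : EtModW.ModP Λ U ⥤ EtModW.ModP Λ X :=
  (ProEtS.compP j).sheafPullback (ModuleCat.{u + 1} Λ) (Scheme.ProEt.topology U) (Scheme.ProEt.topology X)

/-- Restriction of pro-etale sheaves of modules. -/
noncomputable abbrev restrPM : EtModW.ModP Λ X ⥤ EtModW.ModP Λ U :=
  (ProEtS.compP j).sheafPushforwardContinuous (ModuleCat.{u + 1} Λ) (Scheme.ProEt.topology U)
    (Scheme.ProEt.topology X)

/-- The adjunction. -/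
noncomputable abbrev extPMAdj : extPM Λ j ⊣ restrPM Λ j :=
  (ProEtS.compP j).sheafAdjunctionContinuous (ModuleCat.{u + 1} Λ) (Scheme.ProEt.topology U)
    (Scheme.ProEt.topology X)

theorem restrPM_smul {Y Y' : EtModW.ModP Λ X} (g : Y ⟶ Y') (a : Λ) :
    (restrPM Λ j).map (a • g) = a • (restrPM Λ j).map g := rfl

variable [IsOpenImmersion j]

/-- The unit of extension by zero is an isomorphism. -/
theorem isIso_unit_extPM (F : EtModW.ModP Λ U) : IsIso ((extPMAdj Λ j).unit.app F) := by
  have := ProEt.compP_isCocontinuous j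
  have := ProEt.compP_faithful j
  have := ProEt.compP_full j
  let t : Adjunction.Triple (extPM Λ j) (restrPM Λ j)
      ((ProEtS.compP j).sheafPushforwardCocontinuous (ModuleCat.{u + 1} Λ)
        (Scheme.ProEt.topology U) (Scheme.ProEt.topology X)) :=
    ⟨extPMAdj Λ j, (ProEtS.compP j).sheafAdjunctionCocontinuous (ModuleCat.{u + 1} Λ)
      (Scheme.ProEt.topology U) (Scheme.ProEt.topology X)⟩
  have : IsIso t.adj₂.counit := by
    have : ∀ G, IsIso (t.adj₂.counit.app G) := fun G => by
      have : IsIso ((sheafToPresheaf _ _).map (t.adj₂.counit.app G)) := by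
        have h := (ProEtS.compP j).sheafAdjunctionCocontinuous_counit_app_hom (ModuleCat.{u + 1} Λ)
          (Scheme.ProEt.topology U) (Scheme.ProEt.topology X) G
        change IsIso (((ProEtS.compP j).sheafAdjunctionCocontinuous (ModuleCat.{u + 1} Λ)
          (Scheme.ProEt.topology U) (Scheme.ProEt.topology X)).counit.app G).hom
        rw [h]
        have : (ProEtS.compP j).op.Full := inferInstance
        have : (ProEtS.compP j).op.Faithful := inferInstance
        have : ∀ F : U.ProEtᵒᵖ ⥤ ModuleCat.{u + 1} Λ,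
            (ProEtS.compP j).op.HasPointwiseRightKanExtension F := fun F => inferInstance
        have : IsIso ((ProEtS.compP j).op.ranAdjunction (ModuleCat.{u + 1} Λ)).counit :=
          Functor.reflective' (ProEtS.compP j).op
        exact NatIso.isIso_app_of_isIso ((ProEtS.compP j).op.ranAdjunction (ModuleCat.{u + 1} Λ)).counit G.obj
      exact isIso_of_reflects_iso _ (sheafToPresheaf _ _)
    exact NatIso.isIso_of_isIso_app _
  have := (t.isIso_unit_iff_isIso_counit).2 this
  exact inferInstanceAs (IsIso (t.adj₁.unit.app F))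

omit [ProEtS.JPCont j] [IsOpenImmersion j] in
theorem isZero_lanMod_of_not_mem (F : U.ProEtᵒᵖ ⥤ ModuleCat.{u + 1} Λ) {W : X.ProEt}
    (y : W.left) (hy : W.hom y ∉ Set.range j) :
    IsZero (((ProEtS.compP j).op.leftKanExtension F).obj (op W)) := by
  refine (IsZero.iff_id_eq_zero _).2 (((ProEtS.compP j).op.isPointwiseLeftKanExtensionLeftKanExtensionUnit
    F (op W)).hom_ext fun k => absurd ?_ hy)
  have h := congrArg (fun m => m y) (MorphismProperty.Over.w k.hom.unop)
  exact ⟨k.left.unop.hom (k.hom.unop.left y), h⟩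

omit [IsOpenImmersion j] in
/-- Extension by zero has no sections on affine objects all of whose points specialise out of `U`. -/
theorem subsingleton_extPM_sections (V : X.ProEt) [IsAffine V.left]
    (hV : ∀ v : ↥V.left, ∃ z : ↥V.left, V.hom.base z ∉ Set.range j ∧ v ⤳ z)
    (F : EtModW.ModP Λ U) : Subsingleton (((extPM Λ j).obj F).obj.obj (op V)) := by
  let J := Scheme.ProEt.topology X
  let P := (ProEtS.compP j).op.leftKanExtension F.obj
  let E := (presheafToSheaf J (ModuleCat.{u + 1} Λ)).obj P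
  let e : (extPM Λ j).obj F ≅ E :=
    (Functor.sheafPullbackConstruction.sheafPullbackIso (ProEtS.compP j) (ModuleCat.{u + 1} Λ)
      (Scheme.ProEt.topology U) J).app F
  suffices h : Subsingleton (E.obj.obj (op V)) from
    @Equiv.subsingleton _ _
      (((sheafToPresheaf _ _).mapIso e).app (op V)).toLinearEquiv.toEquiv h
  refine subsingleton_of_forall_eq (0 : E.obj.obj (op V)) fun s => ?_
  obtain ⟨n, W, g, hW, hcov, hmem⟩ :=
    ProEt.exists_affine_refinement (Presheaf.imageSieve_mem J (toSheafify J P) s)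
  let ι := {k : Fin n // ∃ y, (W k).hom y ∉ Set.range j}
  have hι : ∀ x : V.left, ∃ k : ι, x ∈ Set.range (g k.1).left := fun x => by
    obtain ⟨z, hz, hxz⟩ := hV x
    obtain ⟨k, y, rfl⟩ := hcov z
    have := ProEt.weaklyEtale_left (g k)
    obtain ⟨y', -, hy'⟩ := (Flat.generalizingMap (g k).left) hxz
    refine ⟨⟨k, y, ?_⟩, y', hy'⟩
    have h := congrArg (fun m => m y) (MorphismProperty.Over.w (g k))
    rw [← h]
    exact hz
  have : ∀ k : ι, IsAffine (W k.1).left := fun k => hW k.1
  have hc := ProEt.affine_family_mem_topology (fun k : ι => W k.1) (fun k => g k.1) hι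
  have hsep := ((isSheaf_iff_isSheaf_of_type _ _).1
    ((sheafCompose J (forget (ModuleCat.{u + 1} Λ))).obj E).property _ hc).isSeparatedFor
  refine hsep.ext ?_
  rintro Y q ⟨Y', a, b, ⟨k⟩, rfl⟩
  change E.obj.map (a ≫ g k.1).op s = E.obj.map (a ≫ g k.1).op 0
  rw [map_zero, op_comp, Functor.map_comp_apply]
  suffices E.obj.map (g k.1).op s = 0 by rw [this, map_zero]
  obtain ⟨t, ht⟩ := hmem k.1
  obtain ⟨y, hy⟩ := k.2
  have : Subsingleton (P.obj (op (W k.1))) :=
    ModuleCat.subsingleton_of_isZero (isZero_lanMod_of_not_mem Λ j F.obj y hy)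
  refine ht.symm.trans ?_
  rw [Subsingleton.elim t 0, map_zero]

omit [WeaklyEtale j] [ProEtS.JPCont j] [IsOpenImmersion j] in
theorem isAffine_clopen {Y : Scheme.{u}} [IsAffine Y] (O : Y.Opens) (hO : IsClopen (O : Set Y)) :
    IsAffine O.toScheme := by
  have : IsClosedImmersion O.ι := .of_isPreimmersion _ (by rw [Scheme.Opens.range_ι]; exact hO.1)
  exact isAffine_of_isAffineHom O.ι

variable [QuasiCompact j]

/-- Sections of extension by zero on a weakly contractible affine object: sections on the part over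
`U`. -/
theorem exists_bijective_sections {V : X.ProEt} [IsAffine V.left] (hV : ProEtS.IsWC V) :
    ∃ (Vu : U.ProEt) (h : (ProEtS.compP j).obj Vu ⟶ V), ∀ F : EtModW.ModP Λ U,
      Function.Bijective (((extPM Λ j).obj F).obj.map h.op) := by
  let G : Set V.left := V.hom ⁻¹' Set.range j
  have hG : IsOpen G := j.isOpenEmbedding.isOpen_range.preimage V.hom.continuous
  have hGc : IsCompact G := by
    have : QuasiCompact (pullback.fst V.hom j) := MorphismProperty.pullback_fst V.hom j inferInstance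
    have hc : CompactSpace V.left := inferInstance
    have : CompactSpace ↥(pullback V.hom j) :=
      @QuasiCompact.compactSpace_of_compactSpace _ _ (pullback.fst V.hom j) ‹_› hc
    have h := isCompact_range (pullback.fst V.hom j).continuous
    rwa [Scheme.Pullback.range_fst V.hom j] at h
  obtain ⟨O, hO, hdisj, hcov, hO1, hO0⟩ :=
    ProEt.exists_split ((ProEt.isWContractible_iff_isWC V).2 hV) G hG hGc
  let V₁ : X.ProEt := Scheme.ProEt.mk ((O 1).ι ≫ V.hom)
  have hV₁ : Set.range V₁.hom ⊆ Set.range j := by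
    rintro _ ⟨x, rfl⟩
    exact hO1 x.2
  let γ : V₁.left ⟶ U := IsOpenImmersion.lift j V₁.hom hV₁
  have : WeaklyEtale γ := by
    have : WeaklyEtale (γ ≫ j) := by rw [IsOpenImmersion.lift_fac]; exact V₁.prop
    exact WeaklyEtale.of_comp γ j
  let Vu : U.ProEt := Scheme.ProEt.mk γ
  let e₁ : (ProEtS.compP j).obj Vu ⟶ V₁ := MorphismProperty.Over.homMk (𝟙 _)
    ((Category.id_comp _).trans (IsOpenImmersion.lift_fac j V₁.hom hV₁).symm)
  let e₂ : V₁ ⟶ (ProEtS.compP j).obj Vu := MorphismProperty.Over.homMk (𝟙 _)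
    ((Category.id_comp _).trans (IsOpenImmersion.lift_fac j V₁.hom hV₁))
  have : IsIso e₁ := ⟨e₂, MorphismProperty.Over.Hom.ext (Category.id_comp _),
    MorphismProperty.Over.Hom.ext (Category.id_comp _)⟩
  refine ⟨Vu, e₁ ≫ ProEt.openHom (O 1), fun F => ?_⟩
  let M := (extPM Λ j).obj F
  have hb := ProEt.bijective_of_decomposition
    ((isSheaf_iff_isSheaf_of_type _ _).1
      ((sheafCompose (Scheme.ProEt.topology X) (forget (ModuleCat.{u + 1} Λ))).obj M).property)
    O hdisj hcov
  have h0 : Subsingleton (M.obj.obj (op (Scheme.ProEt.mk ((O 0).ι ≫ V.hom)))) := by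
    have : IsAffine (Scheme.ProEt.mk ((O 0).ι ≫ V.hom)).left := by
      exact isAffine_clopen (O 0) (hO 0)
    refine subsingleton_extPM_sections Λ j _ (fun v => ?_) F
    obtain ⟨z, hz, hzG, hvz⟩ := hO0 ((O 0).ι v) v.2
    exact ⟨⟨z, hz⟩, hzG, (O 0).ι.isOpenEmbedding.isInducing.specializes_iff.1 hvz⟩
  have h1 : Function.Bijective (M.obj.map (ProEt.openHom (O 1)).op) := by
    refine ⟨fun a b e => hb.1 (funext fun k => ?_), fun c => ?_⟩
    · fin_cases k
      · exact h0.elim _ _
      · exact e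
    · obtain ⟨a, ha⟩ := hb.2 fun k => match k with
        | 0 => (0 : M.obj.obj (op (Scheme.ProEt.mk ((O 0).ι ≫ V.hom))))
        | 1 => c
      exact ⟨a, congrFun ha 1⟩
  have h2 : Function.Bijective (M.obj.map e₁.op) :=
    (ConcreteCategory.isIso_iff_bijective _).1 inferInstance
  convert h2.comp h1 using 1
  funext a
  exact Functor.map_comp_apply M.obj _ _ a

/-- Extension by zero commutes with limits of towers on the nose of a presentation. -/
theorem isIso_lift_extPM {F : EtModW.ModP Λ U} (Q : ℕᵒᵖ ⥤ EtModW.ModP Λ U)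
    (p : (Functor.const ℕᵒᵖ).obj F ⟶ Q) (h : IsIso (limit.lift Q (Cone.mk F p))) :
    IsIso (limit.lift (Q ⋙ extPM Λ j) ((extPM Λ j).mapCone (Cone.mk F p))) := by
  let L := extPM Λ j
  let ℓ := limit.lift (Q ⋙ L) (L.mapCone (Cone.mk F p))
  have key : ∀ V : X.ProEt, IsAffine V.left → ProEtS.IsWC V →
      Function.Bijective (ℓ.hom.app (op V)).hom := by
    intro V hV hW
    obtain ⟨Vu, g, hg⟩ := exists_bijective_sections Λ j hW
    have hu : ∀ G : EtModW.ModP Λ U,
        Function.Bijective (((extPMAdj Λ j).unit.app G).hom.app (op Vu)).hom := fun G => by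
      have := isIso_unit_extPM Λ j G
      exact (ConcreteCategory.isIso_iff_bijective _).1
        (inferInstanceAs (IsIso (((sheafToPresheaf _ _).map ((extPMAdj Λ j).unit.app G)).app (op Vu))))
    -- sections over `V` are sections over `Vu`, naturally
    have hθ : ∀ (G G' : EtModW.ModP Λ U) (φ : G ⟶ G') (z : G.obj.obj (op Vu)) (w : (L.obj G).obj.obj (op V)),
        (L.obj G).obj.map g.op w = (((extPMAdj Λ j).unit.app G).hom.app (op Vu)).hom z →
        (L.obj G').obj.map g.op (((L.map φ).hom.app (op V)).hom w) =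
          (((extPMAdj Λ j).unit.app G').hom.app (op Vu)).hom ((φ.hom.app (op Vu)).hom z) := by
      intro G G' φ z w hw
      refine (ConcreteCategory.congr_hom ((L.map φ).hom.naturality g.op) w).symm.trans ?_
      refine (congrArg ((L.map φ).hom.app _) hw).trans ?_
      exact (ConcreteCategory.congr_hom (congrArg (fun m => m.hom.app (op Vu))
        ((extPMAdj Λ j).unit.naturality φ)) z).symm
    have hp : ∀ i (w : (L.obj F).obj.obj (op V)),
        ((limit.π (Q ⋙ L) (op i)).hom.app (op V)).hom ((ℓ.hom.app (op V)).hom w) =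
          ((L.map (p.app (op i))).hom.app (op V)).hom w := fun i w =>
      ConcreteCategory.congr_hom (congrArg (fun m => m.hom.app (op V))
        (limit.lift_π (L.mapCone (Cone.mk F p)) (op i))) w
    have hFi : Function.Bijective ((limit.lift Q (Cone.mk F p)).hom.app (op Vu)).hom :=
      (ConcreteCategory.isIso_iff_bijective _).1
        (inferInstanceAs (IsIso (((sheafToPresheaf _ _).map (limit.lift Q (Cone.mk F p))).app (op Vu))))
    have hpi : ∀ i (z : F.obj.obj (op Vu)),
        ((limit.π Q (op i)).hom.app (op Vu)).hom (((limit.lift Q (Cone.mk F p)).hom.app (op Vu)).hom z) =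
          ((p.app (op i)).hom.app (op Vu)).hom z := fun i z =>
      ConcreteCategory.congr_hom (congrArg (fun m => m.hom.app (op Vu))
        (limit.lift_π (Cone.mk F p) (op i))) z
    refine ⟨(injective_iff_map_eq_zero _).2 fun w hw => (hg F).1 ?_, fun c => ?_⟩
    · obtain ⟨z, hz⟩ := (hu F).2 ((L.obj F).obj.map g.op w)
      suffices z = 0 by
        refine hz.symm.trans ?_
        rw [this, map_zero]
        exact (map_zero _).symm
      refine hFi.1 (section_ext Q Vu _ _ fun i => (hu _).1 ?_)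
      rw [hpi, map_zero, map_zero, map_zero]
      refine (hθ F _ (p.app (op i)) z w hz.symm).symm.trans ?_
      rw [← hp, hw, map_zero]
      exact map_zero _
    · choose y hy using fun i => (hu (Q.obj (op i))).2
        ((L.obj (Q.obj (op i))).obj.map g.op (((limit.π (Q ⋙ L) (op i)).hom.app (op V)).hom c))
      obtain ⟨w', hw'⟩ := exists_section Q Vu y fun i => (hu _).1 <| by
        refine (hθ _ _ (Q.map (homOfLE (Nat.le_succ i)).op) (y (i + 1)) _ (hy (i + 1)).symm).symm.trans ?_
        refine Eq.trans (congrArg ((L.obj (Q.obj (op i))).obj.map g.op) ?_) (hy i).symm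
        exact ConcreteCategory.congr_hom (congrArg (fun m => m.hom.app (op V))
          (limit.w (Q ⋙ L) (homOfLE (Nat.le_succ i)).op)) c
      obtain ⟨z, rfl⟩ := hFi.2 w'
      obtain ⟨w, hw⟩ := (hg F).2 ((((extPMAdj Λ j).unit.app F).hom.app (op Vu)).hom z)
      refine ⟨w, section_ext (Q ⋙ L) V _ _ fun i => (hg (Q.obj (op i))).1 ?_⟩
      rw [hp]
      refine (hθ F _ (p.app (op i)) z w hw).trans ?_
      rw [← hpi, hw' i]
      exact hy i
  have : Epi ℓ := epi_of_WC ℓ fun V hV hW => (key V hV hW).2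
  have : Mono ℓ := by
    refine Preadditive.mono_of_isZero_kernel ℓ (DC.isZero_of_WC Λ _ fun V hV hW => ?_)
    have := DC.preservesHomology_R Λ hW
    have := Functor.PreservesHomology.preservesKernel (DC.R Λ V) ℓ
    have : Mono ((DC.R Λ V).map ℓ) := (ModuleCat.mono_iff_injective _).2 (key V hV hW).1
    exact (isZero_kernel_of_mono _).of_iso (PreservesKernel.iso (DC.R Λ V) ℓ)
  exact isIso_of_mono_of_epi ℓ

omit [QuasiCompact j] in
/-- Extension by zero commutes with pulling back from the etale site. -/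
theorem nonempty_ext_epsPullMod [hje : Etale j] [ProEtS.EpsCont U] [ProEtS.EpsCont X]
    [(MorphismProperty.Over.map (P := EtCoh.etaleMP.{u}) ⊤ (f := j) hje).IsContinuous
      U.smallEtaleTopology X.smallEtaleTopology]
    [((MorphismProperty.Over.map (P := EtCoh.etaleMP.{u}) ⊤ (f := j) hje).sheafPushforwardContinuous
      (ModuleCat.{u + 1} Λ) U.smallEtaleTopology X.smallEtaleTopology).IsRightAdjoint]
    (E : EtModW.Mod Λ U) :
    Nonempty ((EtModW.epsPullMod Λ X).obj
        (((MorphismProperty.Over.map (P := EtCoh.etaleMP.{u}) ⊤ (f := j) hje).sheafPullback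
          (ModuleCat.{u + 1} Λ) U.smallEtaleTopology X.smallEtaleTopology).obj E) ≅
      (extPM Λ j).obj ((EtModW.epsPullMod Λ U).obj E)) := by
  let cE := MorphismProperty.Over.map (P := EtCoh.etaleMP.{u}) ⊤ (f := j) hje
  let a₁ := (cE.sheafAdjunctionContinuous (ModuleCat.{u + 1} Λ) U.smallEtaleTopology
    X.smallEtaleTopology).comp (Eps.epsAdjMod Λ (X := X))
  let a₂ := (Eps.epsAdjMod Λ (X := U)).comp (extPMAdj Λ j)
  let i : cE ⋙ ProEtS.eps X ≅ ProEtS.eps U ⋙ ProEtS.compP j :=
    NatIso.ofComponents (fun V => MorphismProperty.Over.isoMk (Iso.refl _) (Category.id_comp _))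
      (fun g => MorphismProperty.Over.Hom.ext
        ((Category.comp_id _).trans (Category.id_comp _).symm))
  let e : (ProEtS.eps X).sheafPushforwardContinuous (ModuleCat.{u + 1} Λ) X.smallEtaleTopology
      (Scheme.ProEt.topology X) ⋙ cE.sheafPushforwardContinuous (ModuleCat.{u + 1} Λ)
        U.smallEtaleTopology X.smallEtaleTopology ≅
      restrPM Λ j ⋙ (ProEtS.eps U).sheafPushforwardContinuous (ModuleCat.{u + 1} Λ)
        U.smallEtaleTopology (Scheme.ProEt.topology U) :=
    NatIso.ofComponents (fun G => (fullyFaithfulSheafToPresheaf _ _).preimageIso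
        (Functor.isoWhiskerRight (NatIso.op i).symm G.obj))
      (fun {G G'} φ => by
        ext V x
        exact (NatTrans.naturality_apply φ.hom (i.inv.app V.unop).op x).symm)
  exact ⟨(Adjunction.leftAdjointUniq (a₁.ofNatIsoRight e) a₂).app E⟩

/-- Extension by zero of an adic pro-etale sheaf. -/
theorem isAdicP_ext [hje : Etale j] [ProEtS.EpsCont U] [ProEtS.EpsCont X]
    [(MorphismProperty.Over.map (P := EtCoh.etaleMP.{u}) ⊤ (f := j) hje).IsContinuous
      U.smallEtaleTopology X.smallEtaleTopology]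
    [((MorphismProperty.Over.map (P := EtCoh.etaleMP.{u}) ⊤ (f := j) hje).sheafPushforwardContinuous
      (ModuleCat.{u + 1} Λ) U.smallEtaleTopology X.smallEtaleTopology).IsRightAdjoint]
    (I : Ideal Λ)
    (hext : ∀ E : EtModW.Mod Λ U, EtModW.IsConstructible Λ E →
      EtModW.IsConstructible Λ (((MorphismProperty.Over.map (P := EtCoh.etaleMP.{u}) ⊤ (f := j) hje).sheafPullback
        (ModuleCat.{u + 1} Λ) U.smallEtaleTopology X.smallEtaleTopology).obj E))
    (F : EtModW.ModP Λ U)
    (hF : (∃ (Q : ℕᵒᵖ ⥤ EtModW.ModP Λ U) (p : (Functor.const ℕᵒᵖ).obj F ⟶ Q),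
        (∀ n : ℕ, ARSys.IsQuot (I ^ (n + 1)) (p.app (op n))) ∧
        (∀ n : ℕ, ∃ E : EtModW.Mod Λ U, EtModW.IsConstructible Λ E ∧
          Nonempty ((EtModW.epsPullMod Λ U).obj E ≅ Q.obj (op n))) ∧
        IsIso (limit.lift Q (Cone.mk F p)))) :
    (∃ (Q : ℕᵒᵖ ⥤ EtModW.ModP Λ X) (p : (Functor.const ℕᵒᵖ).obj ((extPM Λ j).obj F) ⟶ Q),
      (∀ n : ℕ, ARSys.IsQuot (I ^ (n + 1)) (p.app (op n))) ∧
      (∀ n : ℕ, ∃ E : EtModW.Mod Λ X, EtModW.IsConstructible Λ E ∧
        Nonempty ((EtModW.epsPullMod Λ X).obj E ≅ Q.obj (op n))) ∧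
      IsIso (limit.lift Q (Cone.mk ((extPM Λ j).obj F) p))) := by
  obtain ⟨Q, p, hp, hE, hi⟩ := hF
  refine ⟨Q ⋙ extPM Λ j, ((extPM Λ j).mapCone (Cone.mk F p)).π, fun n => ?_, fun n => ?_,
    isIso_lift_extPM Λ j Q p hi⟩
  · exact isQuot_map (extPMAdj Λ j) (restrPM_smul Λ j) _ (p.app (op n)) (hp n)
  · obtain ⟨E, hEc, ⟨e⟩⟩ := hE n
    obtain ⟨e'⟩ := nonempty_ext_epsPullMod Λ j E
    exact ⟨_, hext E hEc, ⟨e' ≪≫ (extPM Λ j).mapIso e⟩⟩

end Groth.EtaleDeep.AdicP
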