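import Groth.Agent.EtaleDeep.AdicP.Abelian
import Groth.Agent.EtaleDeep.AR.PrincipalTower

/-!
# Extensions of adic pro-etale sheaves for a principal ideal
-/

set_option autoImplicit false
set_option backward.isDefEq.respectTransparency.types false
set_option linter.style.haveILetI false

universe u

open CategoryTheory CategoryTheory.Limits AlgebraicGeometry Opposite

namespace Groth.EtaleDeep.AdicP

variable {Λ : Type (u + 1)} [CommRing Λ] {X : Scheme.{u}} [ProEtS.EpsCont X] [IsNoetherianRing Λ]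

theorem isAdicPSheaf_iso {I : Ideal Λ} {F G : EtModW.ModP Λ X} (e : F ≅ G) (hF : IsAdicPSheaf I F) :
    IsAdicPSheaf I G := by
  obtain ⟨A, hA, hAc, ⟨eA⟩⟩ := (isAdicP_iff (IsNoetherian.noetherian I) F).1 hF
  exact (isAdicP_iff (IsNoetherian.noetherian I) G).2 ⟨A, hA, hAc, ⟨eA ≪≫ e⟩⟩

theorem consP_of_iso {F G : EtModW.ModP Λ X} (e : F ≅ G) (hF : Cons.ConsP Λ X F) : Cons.ConsP Λ X G := by
  obtain ⟨E, hE, ⟨eE⟩⟩ := hF
  exact ⟨E, hE, ⟨eE ≪≫ e⟩⟩

/-- Adic sheaves killed by a power of the ideal are constructible. -/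
theorem consP_of_killedBy {I : Ideal Λ} {F : EtModW.ModP Λ X} (hF : IsAdicPSheaf I F) (n : ℕ)
    (h : ARSys.KilledBy (I ^ (n + 1)) F) : Cons.ConsP Λ X F := by
  obtain ⟨Q, p, hp, hE, -⟩ := hF
  obtain ⟨ψ, hψ, -⟩ := (hp n).2 F (𝟙 F) (AR.homKilledBy_of_killedBy_target _ h)
  have := AR.IsQuot.epi (hp n)
  have : IsIso (p.app (op n)) := ⟨ψ, hψ, by
    rw [← cancel_epi (p.app (op n)), ← Category.assoc, hψ]
    exact (Category.id_comp _).trans (Category.comp_id _).symm⟩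
  exact consP_of_iso (asIso (p.app (op n))).symm (hE n)

variable [AlgebraicGeometry.IsNoetherian X] (a : Λ)

/-- Adic sheaves for a principal ideal are stable under extensions. -/
theorem isAdicPSheaf_X₂ {S : ShortComplex (EtModW.ModP Λ X)} (hS : S.ShortExact)
    (h₁ : IsAdicPSheaf (Ideal.span {a}) S.X₁) (h₃ : IsAdicPSheaf (Ideal.span {a}) S.X₃) :
    IsAdicPSheaf (Ideal.span {a}) S.X₂ := by
  obtain ⟨Q₁, p₁, hp₁, hE₁, hi₁⟩ := id h₁
  obtain ⟨Q₃, p₃, hp₃, hE₃, hi₃⟩ := id h₃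
  obtain ⟨⟨e₁⟩, hl₁⟩ := AR.exists_tower_iso a p₁ hp₁ hi₁
  obtain ⟨⟨e₃⟩, hl₃⟩ := AR.exists_tower_iso a p₃ hp₃ hi₃
  have hker : ∀ m : ℕ, IsAdicPSheaf (Ideal.span {a}) (kernel (a ^ m • 𝟙 S.X₃)) := fun m =>
    (isAdicPSheaf_kernel_cokernel _ h₃ h₃ _).1
  let Z : ℕ →o Subobject S.X₃ := ⟨fun m => kernelSubobject (a ^ m • 𝟙 S.X₃), monotone_nat_of_le_succ fun m => by
    rw [pow_succ', ← smul_smul]
    refine le_kernelSubobject _ _ ?_
    rw [Linear.comp_smul, kernelSubobject_arrow_comp, smul_zero]⟩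
  obtain ⟨c, hc⟩ := chain_stationary _ h₃ Z fun m => isAdicPSheaf_iso (kernelSubobjectIso _).symm (hker m)
  have hbound : ∀ (m : ℕ) ⦃W : EtModW.ModP Λ X⦄ (y : W ⟶ S.X₃), a ^ m • y = 0 → a ^ c • y = 0 := by
    intro m W y hy
    rcases le_or_gt m c with hm | hm
    · obtain ⟨d, rfl⟩ := Nat.exists_eq_add_of_le hm
      rw [pow_add, mul_comm, ← smul_smul, hy, smul_zero]
    · have h0 : (Z m).Factors y := (kernelSubobject_factors_iff _ _).2 (by
        rw [Linear.comp_smul, Category.comp_id, hy])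
      rw [hc m hm.le] at h0
      have := (kernelSubobject_factors_iff _ _).1 h0
      rwa [Linear.comp_smul, Category.comp_id] at this
  have hW := Cons.isWeakSerre_consP (Λ := Λ) (X := X)
  refine ⟨(AR.tower a).obj S.X₂, AR.towerπ a S.X₂, AR.isQuot_towerπ a S.X₂, fun n => ?_,
    AR.isIso_towerLift_X₂ a hS hl₁ hl₃ c hbound⟩
  refine AR.prop_tower_X₂ a hS (Cons.ConsP Λ X) (fun e h => consP_of_iso e h)
    (fun {A B} f hA hB => ?_) (fun {A B} f hA hB => ?_)
    (fun {T} hT hA hB => ObjectProperty.prop_X₂_of_shortExact (Cons.ConsP Λ X) hT hA hB) n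
    (consP_of_iso (e₁.app (op n)).symm (hE₁ n)) (consP_of_iso (e₃.app (op n)).symm (hE₃ n))
    (consP_of_killedBy (hker (n + 1)) n ?_)
  · exact (hW.toIsClosedUnderKernels).kernels_le _ ⟨f, _, limit.isLimit (parallelPair f 0), hA, hB⟩
  · exact (hW.toIsClosedUnderCokernels).cokernels_le _ ⟨f, _, colimit.isColimit (parallelPair f 0), hA, hB⟩
  · intro b hb
    rw [Ideal.span_singleton_pow] at hb
    obtain ⟨d, rfl⟩ := Ideal.mem_span_singleton'.1 hb
    rw [← cancel_mono (kernel.ι (a ^ (n + 1) • 𝟙 S.X₃)), zero_comp, AR.smul_id_comm, mul_smul,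
      Linear.comp_smul, kernel.condition, smul_zero]

end Groth.EtaleDeep.AdicP
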