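import Groth.Agent.EtaleDeep.AdicP.Modules

/-!
# Limits of exact sequences with Mittag-Leffler kernel
-/

set_option autoImplicit false

universe u

open CategoryTheory Opposite

namespace Groth.EtaleDeep.AdicP

variable {Λ : Type u} [CommRing Λ]

/-- If the images in the kernel system extend to compatible families, compatible families lift. -/
theorem exists_lift_of_stable {A B C : ℕᵒᵖ ⥤ ModuleCat.{u} Λ} (f : A ⟶ B) (g : B ⟶ C)
    (hgf : ∀ n (x : A.obj (op n)), (g.app (op n)).hom ((f.app (op n)).hom x) = 0)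
    (hfg : ∀ n (y : B.obj (op n)), (g.app (op n)).hom y = 0 → ∃ x, (f.app (op n)).hom x = y)
    (hg : ∀ n, Function.Surjective (g.app (op n)).hom) (r : ℕ)
    (hA : ∀ n (a : A.obj (op (r + n))), ∃ x : ∀ i, A.obj (op i),
      (∀ i, t A (Nat.le_succ i) (x (i + 1)) = x i) ∧ x n = t A (Nat.le_add_left n r) a)
    (c : ∀ i, C.obj (op i)) (hc : ∀ i, t C (Nat.le_succ i) (c (i + 1)) = c i) :
    ∃ b : ∀ i, B.obj (op i), (∀ i, t B (Nat.le_succ i) (b (i + 1)) = b i) ∧
      ∀ i, (g.app (op i)).hom (b i) = c i := by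
  have natg : ∀ {i j : ℕ} (h : i ≤ j) (y : B.obj (op j)),
      (g.app (op i)).hom (t B h y) = t C h ((g.app (op j)).hom y) := fun h y =>
    ConcreteCategory.congr_hom (g.naturality (homOfLE h).op) y
  have natf : ∀ {i j : ℕ} (h : i ≤ j) (y : A.obj (op j)),
      (f.app (op i)).hom (t A h y) = t B h ((f.app (op j)).hom y) := fun h y =>
    ConcreteCategory.congr_hom (f.naturality (homOfLE h).op) y
  have hcle : ∀ {i j : ℕ} (h : i ≤ j), t C h (c j) = c i := fun {i j} h => by
    induction j, h using Nat.le_induction with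
    | base => exact t_refl C i _
    | succ k hk ih => rw [← t_t C hk (Nat.le_succ k), hc, ih]
  choose l hl using fun i => hg i (c i)
  let b₀ : ∀ n, B.obj (op n) := fun n => t B (Nat.le_add_left n r) (l (r + n))
  have hb₀ : ∀ n, (g.app (op n)).hom (b₀ n) = c n := fun n => by rw [natg, hl, hcle]
  choose d hd using fun n => hfg (r + n) (t B (Nat.le_succ (r + n)) (l (r + n + 1)) - l (r + n))
    (by rw [map_sub, natg, hl, hl, hc, sub_self])
  let e : ∀ n, A.obj (op n) := fun n => t A (Nat.le_add_left n r) (d n)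
  have he : ∀ n, (f.app (op n)).hom (e n) = t B (Nat.le_succ n) (b₀ (n + 1)) - b₀ n := fun n => by
    rw [natf, hd, map_sub]
    refine congrArg (· - _) ?_
    exact (t_t B _ _ _).trans (t_t B (Nat.le_succ n) (Nat.le_add_left (n + 1) r) (l (r + (n + 1)))).symm
  let P : ∀ n, A.obj (op n) → Prop := fun n a =>
    ∃ x : ∀ i, A.obj (op i), (∀ i, t A (Nat.le_succ i) (x (i + 1)) = x i) ∧ x n = a
  have step : ∀ n a, P n a → ∃ a', P (n + 1) a' ∧ t A (Nat.le_succ n) a' = a - e n := by
    rintro n _ ⟨x, hx, rfl⟩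
    obtain ⟨y, hy, hy'⟩ := hA n (d n)
    refine ⟨x (n + 1) - y (n + 1), ⟨x - y, fun i => ?_, rfl⟩, ?_⟩
    · change t A _ (x (i + 1) - y (i + 1)) = x i - y i
      rw [map_sub, hx, hy]
    · rw [map_sub, hx, hy, hy']
  choose nxt hnxt hnxt' using step
  let a : ∀ n, {a : A.obj (op n) // P n a} := fun n =>
    Nat.rec (motive := fun n => {a : A.obj (op n) // P n a})
      ⟨0, ⟨fun _ => 0, fun _ => map_zero _, rfl⟩⟩
      (fun n an => ⟨nxt n an.1 an.2, hnxt n an.1 an.2⟩) n
  exact ⟨fun n => b₀ n + (f.app (op n)).hom (a n).1, fun n => by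
      rw [map_add, ← natf, show t A (Nat.le_succ n) (a (n + 1)).1 = (a n).1 - e n from hnxt' n _ _,
        map_sub, he]
      abel_nf,
    fun n => by rw [map_add, hb₀, hgf, add_zero]⟩

end Groth.EtaleDeep.AdicP
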