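import Groth.Agent.EtaleDeep.Eps.Module
import Groth.Agent.EtaleDeep.AdicP.ExtZero
import Groth.Agent.EtaleDeep.AdicP.Push
import Groth.Agent.EtaleDeep.AdicP.Extension
import Groth.Agent.EtaleDeep.ProEt.ShortExact

/-!
# The recollement sequence of pro-etale sheaves of modules
-/

set_option autoImplicit false
set_option backward.isDefEq.respectTransparency.types false
set_option linter.style.haveILetI false

universe u

open CategoryTheory CategoryTheory.Limits AlgebraicGeometry Opposite

namespace Groth.EtaleDeep.AdicP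

open Groth.EtaleDeep.Eps (G toAbP W_whiskerRight)

variable (Λ : Type (u + 1)) [CommRing Λ] {X Y : Scheme.{u}}

/-- Inverse image along a continuous functor of pro-etale sites. -/
noncomputable abbrev pullE (A : Type (u + 2)) [Category.{u + 1} A] (e : Y.ProEt ⥤ X.ProEt)
    [e.IsContinuous (Scheme.ProEt.topology Y) (Scheme.ProEt.topology X)]
    [(e.sheafPushforwardContinuous A (Scheme.ProEt.topology Y) (Scheme.ProEt.topology X)).IsRightAdjoint] :
    Sheaf (Scheme.ProEt.topology Y) A ⥤ Sheaf (Scheme.ProEt.topology X) A :=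
  e.sheafPullback A (Scheme.ProEt.topology Y) (Scheme.ProEt.topology X)

/-- Direct image along a continuous functor of pro-etale sites. -/
noncomputable abbrev pushE (A : Type (u + 2)) [Category.{u + 1} A] (e : Y.ProEt ⥤ X.ProEt)
    [e.IsContinuous (Scheme.ProEt.topology Y) (Scheme.ProEt.topology X)] :
    Sheaf (Scheme.ProEt.topology X) A ⥤ Sheaf (Scheme.ProEt.topology Y) A :=
  e.sheafPushforwardContinuous A (Scheme.ProEt.topology Y) (Scheme.ProEt.topology X)

variable (e : Y.ProEt ⥤ X.ProEt) [e.IsContinuous (Scheme.ProEt.topology Y) (Scheme.ProEt.topology X)]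

/-- The adjunction for modules. -/
noncomputable abbrev adjMod : pullE (ModuleCat.{u + 1} Λ) e ⊣ pushE (ModuleCat.{u + 1} Λ) e :=
  e.sheafAdjunctionContinuous (ModuleCat.{u + 1} Λ) (Scheme.ProEt.topology Y) (Scheme.ProEt.topology X)

/-- The adjunction for abelian sheaves. -/
noncomputable abbrev adjAb : pullE AddCommGrpCat.{u + 1} e ⊣ pushE AddCommGrpCat.{u + 1} e :=
  e.sheafAdjunctionContinuous AddCommGrpCat.{u + 1} (Scheme.ProEt.topology Y) (Scheme.ProEt.topology X)

/-- The comparison `ε⁻¹(forget F) → forget(ε⁻¹F)`. -/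
noncomputable def cmpForget :
    toAbP Λ Y ⋙ pullE AddCommGrpCat.{u + 1} e ⟶ pullE (ModuleCat.{u + 1} Λ) e ⋙ toAbP Λ X where
  app F := ((adjAb e).homEquiv _ _).symm ((toAbP Λ Y).map ((adjMod Λ e).unit.app F))
  naturality F F' φ := by
    apply ((adjAb e).homEquiv _ _).injective
    dsimp only [Functor.comp_obj, Functor.comp_map]
    rw [Adjunction.homEquiv_naturality_left, Adjunction.homEquiv_naturality_right,
      Equiv.apply_symm_apply, Equiv.apply_symm_apply]
    refine ((toAbP Λ Y).map_comp _ _).symm.trans ?_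
    exact ((congrArg (toAbP Λ Y).map ((adjMod Λ e).unit.naturality φ)).trans
      ((toAbP Λ Y).map_comp _ _))

lemma bijective_unit_forget (F : EtModW.ModP Λ Y) (H : ProEtS.AbP X) :
    Function.Bijective (fun m : (toAbP Λ X).obj ((pullE (ModuleCat.{u + 1} Λ) e).obj F) ⟶ H =>
      (toAbP Λ Y).map ((adjMod Λ e).unit.app F) ≫ (pushE AddCommGrpCat.{u + 1} e).map m) := by
  let J := Scheme.ProEt.topology X
  have : PreservesColimitsOfSize.{u, u + 1} (G Λ) := by
    have : PreservesColimitsOfSize.{u + 1, u + 1, u + 1, u + 1} (G Λ) :=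
      ModuleCat.forget₂PreservesColimitsOfSize.{u + 1, u + 1, u + 1, u + 1} Λ
    exact preservesColimitsOfSize_shrink.{u + 1, u + 1, u, u + 1} (G Λ)
  let P := e.op.lan.obj F.obj
  let α : F.obj ⟶ e.op ⋙ P := e.op.lanUnit.app F.obj
  let adj₂ := Functor.sheafPullbackConstruction.sheafAdjunctionContinuous e
    (ModuleCat.{u + 1} Λ) (Scheme.ProEt.topology Y) J
  let i := ((adjMod Λ e).leftAdjointUniq adj₂).app F
  have hunit : (adj₂.unit.app F).hom = α ≫ Functor.whiskerLeft e.op (toSheafify J P) := by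
    have h := Adjunction.map_restrictFullyFaithful_unit_app
      ((e.op.lanAdjunction (ModuleCat.{u + 1} Λ)).comp
        (sheafificationAdjunction J (ModuleCat.{u + 1} Λ)))
      (fullyFaithfulSheafToPresheaf (Scheme.ProEt.topology Y) (ModuleCat.{u + 1} Λ))
      (Functor.FullyFaithful.id _) (L := Functor.sheafPullbackConstruction.sheafPullback
        e (ModuleCat.{u + 1} Λ) (Scheme.ProEt.topology Y) J)
      (R := e.sheafPushforwardContinuous (ModuleCat.{u + 1} Λ) (Scheme.ProEt.topology Y) J)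
      (Iso.refl _) (Iso.refl _) F
    refine h.trans ?_
    simp [Adjunction.comp_unit_app]
    rfl
  have h1 := Adjunction.unit_leftAdjointUniq_hom_app (adjMod Λ e) adj₂ F
  have : Functor.IsLeftKanExtension P α :=
    inferInstanceAs (Functor.IsLeftKanExtension (e.op.leftKanExtension F.obj)
      (e.op.leftKanExtensionUnit F.obj))
  have : (G Λ).PreservesLeftKanExtension F.obj e.op := inferInstance
  have : Functor.IsLeftKanExtension (P ⋙ G Λ)
      (Functor.whiskerRight α (G Λ) ≫ (Functor.associator _ _ _).hom) :=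
    Functor.PreservesLeftKanExtension.preserves P α
  have hW : J.W (Functor.whiskerRight (toSheafify J P) (G Λ)) :=
    W_whiskerRight Λ _ (J.W_toSheafify P)
  let E : ((toAbP Λ X).obj ((pullE (ModuleCat.{u + 1} Λ) e).obj F) ⟶ H) ≃
      ((toAbP Λ Y).obj F ⟶ (pushE AddCommGrpCat.{u + 1} e).obj H) :=
    ((((toAbP Λ X).mapIso i).homFromEquiv).trans
      (fullyFaithfulSheafToPresheaf J AddCommGrpCat.{u + 1}).homEquiv).trans
      ((hW.homEquiv H.obj H.property).trans
        (((P ⋙ G Λ).homEquivOfIsLeftKanExtension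
          (Functor.whiskerRight α (G Λ) ≫ (Functor.associator _ _ _).hom) H.obj).trans
          ((fullyFaithfulSheafToPresheaf (Scheme.ProEt.topology Y) AddCommGrpCat.{u + 1}).homEquiv
            (X := (toAbP Λ Y).obj F) (Y := (pushE AddCommGrpCat.{u + 1} e).obj H)).symm))
  convert E.bijective using 1
  funext m
  apply Sheaf.hom_ext
  ext T x
  have h2 := congrArg (fun k => k.hom.app T) h1
  have h3 := congrArg (fun k => k.app T) hunit
  have h4 : ((toSheafify J P).app (e.op.obj T)) (α.app T x) =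
      i.hom.hom.app (e.op.obj T) (((adjMod Λ e).unit.app F).hom.app T x) :=
    ((ConcreteCategory.congr_hom h2 x).trans (ConcreteCategory.congr_hom h3 x)).symm
  have h5 : ∀ z, i.inv.hom.app (e.op.obj T) (i.hom.hom.app (e.op.obj T) z) = z := fun z =>
    ConcreteCategory.congr_hom (congrArg (fun k => k.hom.app (e.op.obj T)) i.hom_inv_id) z
  refine Eq.trans ?_ (Eq.symm (congrArg (fun z => m.hom.app (e.op.obj T) z)
    ((congrArg (i.inv.hom.app (e.op.obj T)) h4).trans (h5 _))))
  rfl

/-- Forgetting the module structure commutes with `ε⁻¹`. -/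
theorem isIso_cmpForget (F : EtModW.ModP Λ Y) : IsIso ((cmpForget Λ e).app F) := by
  have hb : ∀ H, Function.Bijective (fun m => (cmpForget Λ e).app F ≫ m :
      ((toAbP Λ X).obj ((pullE (ModuleCat.{u + 1} Λ) e).obj F) ⟶ H) → _) := fun H => by
    refine (Function.Bijective.of_comp_iff' ((adjAb e).homEquiv _ H).bijective _).1 ?_
    convert bijective_unit_forget Λ e F H using 1
    funext m
    change (adjAb e).homEquiv _ H
      (((adjAb e).homEquiv _ _).symm ((toAbP Λ Y).map ((adjMod Λ e).unit.app F)) ≫ m) = _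
    rw [Adjunction.homEquiv_naturality_right, Equiv.apply_symm_apply]
    rfl
  obtain ⟨g, hg⟩ := (hb _).2 (𝟙 _)
  exact ⟨g, hg, (hb _).1 ((Category.assoc _ _ _).symm.trans ((congrArg (· ≫ _) hg).trans
    ((Category.id_comp _).trans (Category.comp_id _).symm)))⟩

section

variable {Z U : Scheme.{u}}

/-- Inverse image of pro-etale sheaves of modules. -/
noncomputable abbrev pullPM (f : Z ⟶ X) [ProEtS.PCont f] : EtModW.ModP Λ X ⥤ EtModW.ModP Λ Z :=
  pullE (ModuleCat.{u + 1} Λ) (ProEtS.bcP f)

/-- For a weakly etale morphism inverse image is restriction. -/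
theorem nonempty_restrPM_iso_pullPM (j : U ⟶ X) [WeaklyEtale j] [ProEtS.JPCont j] [ProEtS.PCont j] :
    Nonempty (restrPM Λ j ≅ pullPM Λ j) :=
  let adj : ProEtS.compP j ⊣ ProEtS.bcP j :=
    MorphismProperty.Over.mapPullbackAdj @WeaklyEtale ⊤ j ‹_› trivial
  ⟨((adj.sheafPushforwardContinuous (E := ModuleCat.{u + 1} Λ) (Scheme.ProEt.topology U)
      (Scheme.ProEt.topology X))).leftAdjointUniq (adjMod Λ (ProEtS.bcP j))⟩

variable (j : U ⟶ X) [IsOpenImmersion j] [QuasiCompact j] [WeaklyEtale j] [ProEtS.JPCont j]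
  (i : Z ⟶ X) [IsClosedImmersion i] [ProEtS.PCont i]

/-- `0 → j_! j⁻¹ F → F → i_* i⁻¹ F → 0` for sheaves of modules. -/
theorem shortExact_recollement (hc : Set.range j.base = (Set.range i.base)ᶜ) (F : EtModW.ModP Λ X) :
    ∃ h : (extPMAdj Λ j).counit.app F ≫ (adjMod Λ (ProEtS.bcP i)).unit.app F = 0,
      (ShortComplex.mk _ _ h).ShortExact := by
  let f := (extPMAdj Λ j).counit.app F
  let g := (adjMod Λ (ProEtS.bcP i)).unit.app F
  obtain ⟨hw, hS⟩ := ProEt.shortExact_extZero_push i j hc ((toAbP Λ X).obj F)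
  let e₁ := (cmpForget Λ (ProEtS.compP j)).app ((restrPM Λ j).obj F)
  let e₃ := (ProEtS.pushP i).map ((cmpForget Λ (ProEtS.bcP i)).app F)
  have hi₁ : IsIso e₁ := isIso_cmpForget Λ (ProEtS.compP j) ((restrPM Λ j).obj F)
  have hi₃ : IsIso e₃ :=
    have := isIso_cmpForget Λ (ProEtS.bcP i) F
    inferInstanceAs (IsIso ((ProEtS.pushP i).map ((cmpForget Λ (ProEtS.bcP i)).app F)))
  have h1 : e₁ ≫ (toAbP Λ X).map f = (ProEtS.extZeroPAdj j).counit.app ((toAbP Λ X).obj F) := by
    apply ((adjAb (ProEtS.compP j)).homEquiv _ _).injective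
    refine (Adjunction.homEquiv_naturality_right _ _ _).trans ?_
    refine (congrArg (· ≫ _) (Equiv.apply_symm_apply _ _)).trans ?_
    refine (((toAbP Λ U).map_comp _ _).symm.trans
      ((congrArg (toAbP Λ U).map ((extPMAdj Λ j).right_triangle_components F)).trans
        ((toAbP Λ U).map_id _))).trans ?_
    exact (((ProEtS.extZeroPAdj j).homEquiv_unit ((ProEtS.restrP j).obj ((toAbP Λ X).obj F))
      ((toAbP Λ X).obj F) ((ProEtS.extZeroPAdj j).counit.app ((toAbP Λ X).obj F))).trans
      ((ProEtS.extZeroPAdj j).right_triangle_components ((toAbP Λ X).obj F))).symm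
  have h2 : (ProEtS.pullPushAdjP i).unit.app ((toAbP Λ X).obj F) ≫ e₃ = (toAbP Λ X).map g :=
    ((adjAb (ProEtS.bcP i)).homEquiv_unit _ _ _).symm.trans (Equiv.apply_symm_apply _ _)
  have hfg : f ≫ g = 0 := (toAbP Λ X).map_injective (by
    rw [Functor.map_comp, Functor.map_zero, ← cancel_epi e₁, comp_zero, ← Category.assoc, h1, ← h2]
    exact (Category.assoc _ _ _).symm.trans ((congrArg (· ≫ e₃) hw).trans zero_comp))
  refine ⟨hfg, ?_⟩
  let S := ShortComplex.mk f g hfg
  let α : ShortComplex.mk _ _ hw ≅ S.map (toAbP Λ X) :=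
    ShortComplex.isoMk (@asIso _ _ _ _ e₁ hi₁) (Iso.refl _) (@asIso _ _ _ _ e₃ hi₃)
      ((h1).trans (Category.comp_id _).symm) ((Category.id_comp _).trans h2.symm)
  have hM := ShortComplex.shortExact_of_iso α hS
  exact
    { exact := (ShortComplex.exact_map_iff_of_faithful S (toAbP Λ X)).1 hM.exact
      mono_f := (toAbP Λ X).mono_of_mono_map hM.mono_f
      epi_g := (toAbP Λ X).epi_of_epi_map hM.epi_g }

/-- Adic sheaves glue from an open subscheme and its closed complement. -/
theorem isAdicPSheaf_glue [IsNoetherianRing Λ] [AlgebraicGeometry.IsNoetherian X] (a : Λ)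
    [hje : Etale j] [ProEtS.PCont j] [ProEtS.EpsCont U] [ProEtS.EpsCont Z] [ProEtS.EpsCont X]
    [(MorphismProperty.Over.map (P := EtCoh.etaleMP.{u}) ⊤ (f := j) hje).IsContinuous
      U.smallEtaleTopology X.smallEtaleTopology]
    [((MorphismProperty.Over.map (P := EtCoh.etaleMP.{u}) ⊤ (f := j) hje).sheafPushforwardContinuous
      (ModuleCat.{u + 1} Λ) U.smallEtaleTopology X.smallEtaleTopology).IsRightAdjoint]
    (hext : ∀ E : EtModW.Mod Λ U, EtModW.IsConstructible Λ E →
      EtModW.IsConstructible Λ (((MorphismProperty.Over.map (P := EtCoh.etaleMP.{u}) ⊤ (f := j) hje).sheafPullback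
        (ModuleCat.{u + 1} Λ) U.smallEtaleTopology X.smallEtaleTopology).obj E))
    (hpush : ∀ E : EtModW.Mod Λ Z, EtModW.IsConstructible Λ E →
      EtModW.IsConstructible Λ ((EtModW.push Λ i).obj E))
    (hc : Set.range j.base = (Set.range i.base)ᶜ) (F : EtModW.ModP Λ X)
    (hU : IsAdicPSheaf (Ideal.span {a}) ((pullPM Λ j).obj F))
    (hZ : IsAdicPSheaf (Ideal.span {a}) ((pullPM Λ i).obj F)) :
    IsAdicPSheaf (Ideal.span {a}) F := by
  obtain ⟨h, hS⟩ := shortExact_recollement Λ j i hc F
  obtain ⟨ε⟩ := nonempty_restrPM_iso_pullPM Λ j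
  have hret : IsRetrocompact (Set.range (fun z => i.base z))ᶜ := by
    show IsRetrocompact (Set.range i.base)ᶜ
    rw [← hc]
    intro O hOc hOo
    have h := ((quasiCompact_iff j).1 inferInstance O hOo hOc).image j.continuous
    rw [Set.image_preimage_eq_inter_range] at h
    rwa [Set.inter_comm] at h
  have : IsNoetherianRing Λ := inferInstance
  exact isAdicPSheaf_X₂ a hS
    (isAdicP_ext Λ j _ hext _
      (isAdicPSheaf_iso (ε.app F).symm hU))
    (isAdicP_push i hret _ hpush _ hZ)

end

end Groth.EtaleDeep.AdicP
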