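import Groth.Agent.EtaleDeep.AdicP.Limit
import Groth.Agent.EtaleDeep.ProEt.Objects

/-!
# Sections of quotients modulo an arbitrary ideal
-/

set_option autoImplicit false
set_option backward.isDefEq.respectTransparency.types false
set_option linter.style.haveILetI false

universe u

open CategoryTheory CategoryTheory.Limits AlgebraicGeometry Opposite

namespace Groth.EtaleDeep.AdicP

open DC

variable {Λ : Type (u + 1)} [CommRing Λ] {X : Scheme.{u}} {I : Ideal Λ}

/-- The presheaf quotient modulo `I`. -/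
noncomputable def quotPre (I : Ideal Λ) (F : X.ProEtᵒᵖ ⥤ ModuleCat.{u + 1} Λ) :
    X.ProEtᵒᵖ ⥤ ModuleCat.{u + 1} Λ where
  obj T := ModuleCat.of Λ (F.obj T ⧸ I • (⊤ : Submodule Λ (F.obj T)))
  map {T T'} g := ModuleCat.ofHom (Submodule.mapQ _ _ (F.map g).hom
    (Submodule.smul_le.2 fun a ha z _ => by
      rw [Submodule.mem_comap, map_smul]
      exact Submodule.smul_mem_smul ha Submodule.mem_top))
  map_id T := by
    ext z
    simp
  map_comp {T T' T''} f g := by
    ext z
    simp

/-- The projection to the presheaf quotient. -/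
noncomputable def quotPreπ (I : Ideal Λ) (F : X.ProEtᵒᵖ ⥤ ModuleCat.{u + 1} Λ) : F ⟶ quotPre I F where
  app T := ModuleCat.ofHom (Submodule.mkQ _)

/-- On an affine weakly contractible object the kernel of a quotient map modulo `I` is `I` times the
sections, for every ideal `I`. -/
theorem ker_le_smul_top {F Q : EtModW.ModP Λ X} (p : F ⟶ Q) (hp : ARSys.IsQuot I p)
    {V : X.ProEt} [IsAffine V.left] (hV : ProEtS.IsWC V) :
    LinearMap.ker (p.hom.app (op V)).hom ≤ I • (⊤ : Submodule Λ (F.obj.obj (op V))) := by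
  classical
  intro z hz
  let J := Scheme.ProEt.topology X
  let P := quotPre I F.obj
  let Q' : EtModW.ModP Λ X := (presheafToSheaf J (ModuleCat.{u + 1} Λ)).obj P
  let φ : F ⟶ Q' := ObjectProperty.homMk (quotPreπ I F.obj ≫ toSheafify J P)
  have hφ : ARSys.HomKilledBy I φ := fun a ha => Sheaf.hom_ext (NatTrans.ext (funext fun T =>
    ModuleCat.hom_ext (LinearMap.ext fun y => by
      change a • ((toSheafify J P).app T).hom (Submodule.mkQ _ y) = 0
      refine (map_smul _ a _).symm.trans ((congrArg _ ?_).trans (map_zero _))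
      exact ((map_smul _ a y).symm.trans
        ((Submodule.Quotient.mk_eq_zero _).2 (Submodule.smul_mem_smul ha Submodule.mem_top))))))
  obtain ⟨ψ, hψ, -⟩ := hp.2 _ φ hφ
  have h0 : ((toSheafify J P).app (op V)).hom (Submodule.mkQ _ z) = 0 := by
    change (φ.hom.app (op V)).hom z = 0
    rw [← hψ]
    change (ψ.hom.app (op V)).hom ((p.hom.app (op V)).hom z) = 0
    rw [show (p.hom.app (op V)).hom z = 0 from hz, map_zero]
  have href : ProEt.HasClopenRefinements V :=
    (ProEt.isWContractible_iff_refinements V).1 ((ProEt.isWContractible_iff_isWC V).2 hV)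
  obtain ⟨n, O, -, hdisj, hcov, hmem⟩ := href _ (Presheaf.equalizerSieve_mem J (toSheafify J P)
    (Submodule.mkQ _ z : P.obj (op V)) 0 (h0.trans (map_zero _).symm))
  have hk : ∀ k, (F.obj.map (ProEt.openHom (O k)).op).hom z ∈
      I • (⊤ : Submodule Λ (F.obj.obj (op (Scheme.ProEt.mk ((O k).ι ≫ V.hom))))) := fun k =>
    (Submodule.Quotient.mk_eq_zero _).1 ((hmem k).trans (map_zero _))
  let res : F.obj.obj (op V) →ₗ[Λ] ∀ k, F.obj.obj (op (Scheme.ProEt.mk ((O k).ι ≫ V.hom))) :=
    LinearMap.pi fun k => (F.obj.map (ProEt.openHom (O k)).op).hom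
  have hb : Function.Bijective res := ProEt.bijective_of_decomposition
    ((isSheaf_iff_isSheaf_of_type _ _).1
      ((sheafCompose J (forget (ModuleCat.{u + 1} Λ))).obj F).property) O hdisj hcov
  let e := LinearEquiv.ofBijective res hb
  have hz' : z = ∑ k, e.symm (Pi.single k (res z k)) := by
    apply e.injective
    rw [map_sum]
    simp only [LinearEquiv.apply_symm_apply]
    exact (Finset.univ_sum_single (res z)).symm
  rw [hz']
  refine Submodule.sum_mem _ fun k _ => ?_
  have : e.symm (Pi.single k (res z k)) =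
      ((e.symm : (∀ j, F.obj.obj (op (Scheme.ProEt.mk ((O j).ι ≫ V.hom)))) →ₗ[Λ] _).comp
        (LinearMap.single Λ _ k)) (res z k) := rfl
  rw [this]
  exact Submodule.smul_top_le_comap_smul_top I _ (hk k)

/-- `ker_le_smul_top` as an equality. -/
theorem ker_eq_smul_top {F Q : EtModW.ModP Λ X} (p : F ⟶ Q) (hp : ARSys.IsQuot I p)
    {V : X.ProEt} [IsAffine V.left] (hV : ProEtS.IsWC V) :
    LinearMap.ker (p.hom.app (op V)).hom = I • (⊤ : Submodule Λ (F.obj.obj (op V))) := by
  refine le_antisymm (ker_le_smul_top p hp hV) (Submodule.smul_le.2 fun a ha z _ => ?_)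
  change (p.hom.app (op V)).hom (a • z) = 0
  rw [map_smul]
  exact ConcreteCategory.congr_hom (congrArg (fun m => m.hom.app (op V)) (hp.1 a ha)) _

end Groth.EtaleDeep.AdicP
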